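import Cfsg.Agent.H33.IntrinsicSL2.Quaternion
import Cfsg.Agent.H33.ProductFusion.Dihedral
import Cfsg.Agent.H51.PLayer
import Cfsg.Agent.H59.Balance
import Cfsg.Agent.H59.PComponentOf

/-!
2-components of involution centralisers with a single involution: the working interface.
-/

set_option autoImplicit false

namespace Cfsg.Agent.H33.IntrinsicSL2

open Subgroup
open scoped Pointwise commutatorElement

variable {G : Type*} [Group G]

/-- A 2-element. -/
def Two (x : G) : Prop := ∃ k : ℕ, x ^ 2 ^ k = 1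

theorem Two.of_mem {S : Subgroup G} (hS : IsPGroup 2 S) {x : G} (hx : x ∈ S) : Two x := by
  obtain ⟨k, hk⟩ := hS ⟨x, hx⟩
  exact ⟨k, by simpa using congrArg Subtype.val hk⟩

theorem Two.of_sq {x : G} (h : x * x = 1) : Two x := ⟨1, by rw [pow_one, pow_two, h]⟩

theorem Two.map {H : Type*} [Group H] {x : G} (h : Two x) (f : G →* H) : Two (f x) := by
  obtain ⟨k, hk⟩ := h
  exact ⟨k, by rw [← map_pow, hk, map_one]⟩

theorem Two.conj {x : G} (h : Two x) (g : G) : Two (g * x * g⁻¹) := h.map (MulAut.conj g).toMonoidHom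

theorem Two.pow {x : G} (h : Two x) (n : ℕ) : Two (x ^ n) := by
  obtain ⟨k, hk⟩ := h
  exact ⟨k, by rw [← pow_mul, mul_comm, pow_mul, hk, one_pow]⟩

theorem Two.zpowers {x : G} (h : Two x) : IsPGroup 2 (zpowers x) := by
  obtain ⟨k, hk⟩ := h
  rintro ⟨y, hy⟩
  obtain ⟨i, rfl⟩ := mem_zpowers_iff.mp hy
  refine ⟨k, Subtype.ext ?_⟩
  change (x ^ i) ^ 2 ^ k = 1
  rw [← zpow_natCast, ← zpow_mul, mul_comm, zpow_mul, zpow_natCast, hk, one_zpow]

theorem Two.eq_one_of_odd {x : G} (h : Two x) (ho : Odd (orderOf x)) : x = 1 := by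
  obtain ⟨k, hk⟩ := h
  have h1 : orderOf x ∣ 2 ^ k := orderOf_dvd_of_pow_eq_one hk
  exact orderOf_eq_one_iff.mp (Nat.eq_one_of_dvd_coprimes
    ((Nat.coprime_two_right.mpr ho).pow_right k) dvd_rfl h1)

theorem odd_orderOf_of_mem {H : Subgroup G} (hH : (Nat.card H).Coprime 2) {x : G} (hx : x ∈ H) :
    Odd (orderOf x) :=
  (Nat.coprime_two_right.mp hH).of_dvd_nat (orderOf_dvd_natCard H hx)

/-- An element inverting an element of odd order fixes a point of that coset. -/
theorem exists_half [Finite G] {r : G} (h : Odd (orderOf r)) : ∃ k : ℕ, r ^ k * r ^ k = r := by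
  obtain ⟨m, hm⟩ := h
  refine ⟨m + 1, ?_⟩
  rw [← pow_add, show m + 1 + (m + 1) = (2 * m + 1) + 1 by ring, ← hm, pow_succ, pow_orderOf_eq_one,
    one_mul]

/-- A fixed point of an involutory automorphism in a coset of odd order elements. -/
theorem exists_fixed_mul [Finite G] (α : G →* G) {x r : G} (hr : Odd (orderOf r)) (hx : α x = x * r)
    (hr' : α r = r⁻¹) : ∃ k : ℕ, α (x * r ^ k) = x * r ^ k := by
  obtain ⟨k, hk⟩ := exists_half hr
  refine ⟨k, ?_⟩
  rw [map_mul, map_pow, hx, hr', inv_pow, mul_assoc]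
  congr 1
  nth_rw 1 [← hk]
  group

/-- The conjugate of a subgroup. -/
abbrev cj (g : G) (L : Subgroup G) : Subgroup G := L.map (MulAut.conj g).toMonoidHom

theorem mem_cj {g x : G} {L : Subgroup G} : x ∈ cj g L ↔ g⁻¹ * x * g ∈ L := by
  rw [mem_map_equiv]; simp

theorem conj_mem_cj {g x : G} {L : Subgroup G} (hx : x ∈ L) : g * x * g⁻¹ ∈ cj g L :=
  mem_map_of_mem _ hx

theorem cj_cj (g h : G) (L : Subgroup G) : cj g (cj h L) = cj (g * h) L := by
  ext x
  simp only [mem_cj, mul_inv_rev, mul_assoc]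

theorem cj_one (L : Subgroup G) : cj 1 L = L := by
  ext x; simp [mem_cj]

theorem cj_inj {g : G} {L M : Subgroup G} (h : cj g L = cj g M) : L = M := by
  have := congrArg (cj g⁻¹) h
  rwa [cj_cj, cj_cj, inv_mul_cancel, cj_one, cj_one] at this

theorem cj_eq_iff {g : G} {L : Subgroup G} : cj g L = L ↔ g ∈ normalizer (L : Set G) :=
  H51.mem_normalizer_iff_map_conj_eq.symm

/-- The centraliser of an involution. -/
abbrev C (a : G) : Subgroup G := centralizer ({a} : Set G)

theorem mem_C {a g : G} : g ∈ C a ↔ g * a = a * g := mem_centralizer_singleton_iff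

/-- The odd core of the centraliser. -/
abbrev core (a : G) : Subgroup G := Cfsg.centralizerPPrimeCore 2 a

/-- A 2-component of the centraliser of `a` whose only involution is `a`. -/
structure Intr (a : G) (J : Subgroup G) : Prop where
  ord : orderOf a = 2
  mem : a ∈ J
  uniq : ∀ u ∈ J, orderOf u = 2 → u = a
  le : J ≤ C a
  comp : Cfsg.IsPComponent 2 (J.subgroupOf (C a))

theorem Intr.conj {a : G} {J : Subgroup G} (h : Intr a J) (g : G) : Intr (g * a * g⁻¹) (cj g J) := by
  have hord : ∀ x : G, orderOf (g * x * g⁻¹) = orderOf x := fun x =>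
    orderOf_injective (MulAut.conj g).toMonoidHom (MulAut.conj g).injective x
  have hC : (C a).map (MulAut.conj g).toMonoidHom = C (g * a * g⁻¹) := by
    ext x
    rw [mem_map_equiv]
    simp only [mem_C, MulAut.conj_symm_apply]
    constructor <;> intro hx
    · calc x * (g * a * g⁻¹) = g * (g⁻¹ * x * g * a) * g⁻¹ := by group
        _ = g * (a * (g⁻¹ * x * g)) * g⁻¹ := by rw [hx]
        _ = g * a * g⁻¹ * x := by group
    · calc g⁻¹ * x * g * a = g⁻¹ * (x * (g * a * g⁻¹)) * g := by group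
        _ = g⁻¹ * (g * a * g⁻¹ * x) * g := by rw [hx]
        _ = a * (g⁻¹ * x * g) := by group
  have hle : cj g J ≤ C (g * a * g⁻¹) := hC ▸ map_mono h.le
  refine ⟨(hord a).trans h.ord, conj_mem_cj h.mem, fun u hu h2 => ?_, hle, ?_⟩
  · obtain ⟨v, hv, rfl⟩ := mem_map.mp hu
    exact congrArg (MulAut.conj g).toMonoidHom (h.uniq v hv ((hord v).symm.trans h2))
  · let e : C a ≃* C (g * a * g⁻¹) :=
      ((MulAut.conj g).subgroupMap (C a)).trans (MulEquiv.subgroupCongr hC)
    have he : ∀ x : C a, (e x : G) = g * x * g⁻¹ := fun x => rfl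
    have := H51.pComponent_map_equiv h.comp e
    convert this using 1
    ext ⟨x, hx⟩
    constructor
    · intro hxJ
      obtain ⟨v, hv, rfl⟩ := mem_map.mp (show x ∈ cj g J from hxJ)
      exact ⟨⟨v, h.le hv⟩, hv, Subtype.ext (he _)⟩
    · rintro ⟨v, hv, hv'⟩
      have e1 : x = g * (v : G) * g⁻¹ := (congrArg Subtype.val hv'.symm).trans (he _)
      show x ∈ cj g J
      subst e1
      exact conj_mem_cj hv

theorem Intr.conj_self {a : G} {J : Subgroup G} (h : Intr a J) {g : G} (hg : g ∈ C a) :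
    Intr a (cj g J) := by
  have := h.conj g
  rwa [mul_inv_eq_iff_eq_mul.mpr (mem_C.mp hg)] at this

variable [Finite G]

theorem core_le (a : G) : core a ≤ C a := H59.centralizerPPrimeCore_le 2 a

theorem core_conj {a g x : G} (hg : g ∈ C a) (hx : x ∈ core a) : g * x * g⁻¹ ∈ core a :=
  (mem_normalizer_iff.mp (H59.centralizer_le_normalizer_core 2 a hg) x).mp hx

theorem core_odd {a x : G} (hx : x ∈ core a) : Odd (orderOf x) :=
  odd_orderOf_of_mem (H59.centralizerPPrimeCore_coprime 2 a) hx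

theorem core_two {a x : G} (hx : x ∈ core a) (h : Two x) : x = 1 := h.eq_one_of_odd (core_odd hx)

/-- The centraliser modulo its odd core. -/
abbrev Bar (a : G) : Type _ := ↥(C a) ⧸ Cfsg.pPrimeCore 2 ↥(C a)

/-- The quotient map. -/
abbrev bar (a : G) : ↥(C a) →* Bar a := QuotientGroup.mk' _

omit [Finite G] in
theorem bar_eq_one {a : G} {x : ↥(C a)} : bar a x = 1 ↔ (x : G) ∈ core a := by
  rw [QuotientGroup.mk'_apply, QuotientGroup.eq_one_iff]
  exact (mem_map_iff_mem (C a).subtype_injective).symm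

/-- The image of a subgroup of the centraliser. -/
abbrev barS (a : G) (J : Subgroup G) : Subgroup (Bar a) := (J.subgroupOf (C a)).map (bar a)

omit [Finite G] in
theorem bar_mem_barS {a : G} {J : Subgroup G} {x : G} (hx : x ∈ J) (hxC : x ∈ C a) :
    bar a ⟨x, hxC⟩ ∈ barS a J :=
  mem_map_of_mem _ hx

variable {a : G} {J L : Subgroup G}

omit [Finite G] in
theorem Intr.component (h : Intr a J) : Cfsg.IsComponent (barS a J) := h.comp.2.1

theorem Intr.eq_of_barS (hJ : Intr a J) (hL : Intr a L) (h : barS a J = barS a L) : J = L := by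
  haveI : Fact (Nat.Prime 2) := ⟨Nat.prime_two⟩
  have := congrArg (Subgroup.map (C a).subtype) (H51.pComponent_eq_of_map_eq hJ.comp hL.comp h)
  rwa [map_subgroupOf_eq_of_le hJ.le, map_subgroupOf_eq_of_le hL.le] at this

theorem Intr.comm_core (hJ : Intr a J) (hL : Intr a L) (hne : J ≠ L) {j l : G} (hj : j ∈ J)
    (hl : l ∈ L) : ⁅j, l⁆ ∈ core a := by
  have h0 := (H51.component_eq_or_commute hJ.component hL.component).resolve_left fun h =>
    hne (hJ.eq_of_barS hL h)
  have h1 : ⁅bar a ⟨j, hJ.le hj⟩, bar a ⟨l, hL.le hl⟩⁆ ∈ (⊥ : Subgroup (Bar a)) :=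
    h0 ▸ commutator_mem_commutator (bar_mem_barS hj _) (bar_mem_barS hl _)
  rw [mem_bot, ← map_commutatorElement, bar_eq_one] at h1
  exact h1

theorem Intr.comm_exact (hJ : Intr a J) (hL : Intr a L) (hne : J ≠ L) {S : Subgroup G}
    (hS : IsPGroup 2 S) {j l : G} (hj : j ∈ J) (hl : l ∈ L) (hjS : j ∈ S) (hlS : l ∈ S) :
    j * l = l * j := by
  have h1 : ⁅j, l⁆ ∈ S := by
    rw [commutatorElement_def]
    exact mul_mem (mul_mem (mul_mem hjS hlS) (inv_mem hjS)) (inv_mem hlS)
  exact commutatorElement_eq_one_iff_mul_comm.mp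
    (core_two (hJ.comm_core hL hne hj hl) (Two.of_mem hS h1))

theorem Intr.le_normalizer (hJ : Intr a J) (hL : Intr a L) : L ≤ normalizer (J : Set G) := by
  haveI : Fact (Nat.Prime 2) := ⟨Nat.prime_two⟩
  intro g hg
  have h := H51.pLayer_le_normalizer_pComponent hJ.comp
    (H51.pComponent_le_pLayer hL.comp (show (⟨g, hL.le hg⟩ : C a) ∈ L.subgroupOf (C a) from hg))
  rw [← subgroupOf_normalizer_eq hJ.le] at h
  exact h

theorem Intr.core_le_normalizer (hJ : Intr a J) : core a ≤ normalizer (J : Set G) := by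
  haveI : Fact (Nat.Prime 2) := ⟨Nat.prime_two⟩
  rintro _ ⟨g, hg, rfl⟩
  have h := H51.pPrimeCore_le_normalizer_pComponent hJ.comp hg
  rw [← subgroupOf_normalizer_eq hJ.le] at h
  exact h

/-- The elements of the centraliser of `a` acting trivially on `J` modulo the core. -/
def cent (a : G) (J : Subgroup G) : Subgroup G :=
  (((centralizer (barS a J : Set (Bar a))).comap (bar a)).map (C a).subtype)

omit [Finite G] in
theorem mem_cent (hJ : J ≤ C a) {g : G} :
    g ∈ cent a J ↔ g ∈ C a ∧ ∀ l ∈ J, ⁅g, l⁆ ∈ core a := by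
  constructor
  · rintro ⟨⟨g, hgC⟩, hg, rfl⟩
    refine ⟨hgC, fun l hl => ?_⟩
    have h := mem_centralizer_iff.mp (mem_comap.mp hg) _ (bar_mem_barS hl (hJ hl))
    have h1 : bar a ⁅(⟨g, hgC⟩ : C a), ⟨l, hJ hl⟩⁆ = 1 := by
      rw [map_commutatorElement, commutatorElement_eq_one_iff_mul_comm]; exact h.symm
    exact bar_eq_one.mp h1
  · rintro ⟨hgC, h⟩
    refine ⟨⟨g, hgC⟩, mem_comap.mpr (mem_centralizer_iff.mpr ?_), rfl⟩
    rintro _ ⟨⟨l, hlC⟩, hl, rfl⟩
    have h1 : bar a ⁅(⟨g, hgC⟩ : C a), ⟨l, hlC⟩⁆ = 1 := bar_eq_one.mpr (h l hl)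
    rw [map_commutatorElement, commutatorElement_eq_one_iff_mul_comm] at h1
    exact h1.symm

theorem Intr.other_le_cent (hJ : Intr a J) (hL : Intr a L) (hne : L ≠ J) : L ≤ cent a J :=
  fun g hg => (mem_cent hJ.le).mpr ⟨hL.le hg, fun _ hl => hL.comm_core hJ hne hg hl⟩

omit [Finite G] in
theorem core_le_cent : core a ≤ cent a J := by
  rintro _ ⟨g, hg, rfl⟩
  refine ⟨g, mem_comap.mpr ?_, rfl⟩
  rw [show bar a g = 1 from (QuotientGroup.eq_one_iff g).mpr hg]
  exact one_mem _

omit [Finite G] in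
theorem cent_le : cent a J ≤ C a := map_subtype_le _

theorem conj_mem_cent (hJ : J ≤ C a) {g x : G} (hg : g ∈ C a) (hx : x ∈ cent a J) :
    g * x * g⁻¹ ∈ cent a (cj g J) := by
  obtain ⟨hxC, h⟩ := (mem_cent hJ).mp hx
  have hle : cj g J ≤ C a := by
    rintro _ ⟨l, hl, rfl⟩
    exact mul_mem (mul_mem hg (hJ hl)) (inv_mem hg)
  refine (mem_cent hle).mpr ⟨mul_mem (mul_mem hg hxC) (inv_mem hg), ?_⟩
  rintro _ ⟨l, hl, rfl⟩
  have := core_conj hg (h l hl)
  convert this using 1
  simp only [commutatorElement_def, MulEquiv.coe_toMonoidHom, MulAut.conj_apply]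
  group

omit [Finite G] in
theorem Intr.mem_cent_self (hJ : Intr a J) : a ∈ cent a J := by
  refine (mem_cent hJ.le).mpr ⟨mem_C.mpr rfl, fun l hl => ?_⟩
  rw [commutatorElement_eq_one_iff_mul_comm.mpr (mem_C.mp (hJ.le hl)).symm]
  exact one_mem _

theorem Intr.uperf (hJ : Intr a J) : UPerf (⟨a, hJ.mem⟩ : ↥J) := by
  haveI : Fact (Nat.Prime 2) := ⟨Nat.prime_two⟩
  refine ⟨by rw [← Subgroup.orderOf_coe]; exact hJ.ord, fun u hu => Subtype.ext (hJ.uniq u u.2 ?_), ?_⟩
  · rw [Subgroup.orderOf_coe]; exact hu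
  · exact Subgroup.isPerfect_iff.mpr (H59.pComponentOf_commutator_self (p := 2) ⟨hJ.le, hJ.comp⟩)

theorem Intr.sq_one (hJ : Intr a J) {u : G} (hu : u ∈ J) (h : u * u = 1) : u = 1 ∨ u = a := by
  by_cases h1 : u = 1
  · exact Or.inl h1
  · exact Or.inr (hJ.uniq u hu (orderOf_eq_two h h1))

theorem Intr.mul_self (hJ : Intr a J) : a * a = 1 := mul_self_of_two hJ.ord

theorem Intr.sylow_exists (hJ : Intr a J) {W : Subgroup G} (hW : IsPGroup 2 W) (hWJ : W ≤ J) :
    ∃ Q : Sylow 2 ↥J, W.subgroupOf J ≤ (Q : Subgroup J) :=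
  (hW.comap_of_injective J.subtype J.subtype_injective).exists_le_sylow

/-- Two elements of the same component with a common 2-power behaviour: the trivial ones. -/
theorem Intr.cent_two (hJ : Intr a J) {x : G} (hx : x ∈ J) (h2 : Two x) (hc : x ∈ cent a J) :
    x = 1 ∨ x = a := by
  haveI : Fact (Nat.Prime 2) := ⟨Nat.prime_two⟩
  obtain ⟨Q, hQ⟩ := hJ.sylow_exists h2.zpowers (zpowers_le.mpr hx)
  have hxQ : (⟨x, hx⟩ : J) ∈ (Q : Subgroup J) := hQ (mem_zpowers x)
  suffices hcomm : ∀ q ∈ (Q : Subgroup J), (⟨x, hx⟩ : J) * q = q * ⟨x, hx⟩ by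
    rcases hJ.uperf.central Q hxQ hcomm with h | h
    · exact Or.inl (congrArg Subtype.val h)
    · exact Or.inr (congrArg Subtype.val h)
  · intro q hq
    refine Subtype.ext ?_
    have h1 := ((mem_cent hJ.le).mp hc).2 q q.2
    refine commutatorElement_eq_one_iff_mul_comm.mp (core_two h1 ?_)
    have h2' : ⁅(⟨x, hx⟩ : J), q⁆ ∈ (Q : Subgroup J) := by
      rw [commutatorElement_def]
      exact mul_mem (mul_mem (mul_mem hxQ hq) (inv_mem hxQ)) (inv_mem hq)
    exact (Two.of_mem Q.isPGroup' h2').map J.subtype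

/-- An element in two components is `1` or the involution, if it is a 2-element. -/
theorem Intr.inter_two (hJ : Intr a J) (hL : Intr a L) (hne : L ≠ J) {x : G} (hx : x ∈ J)
    (hxL : x ∈ L) (h2 : Two x) : x = 1 ∨ x = a :=
  hJ.cent_two hx h2 (hJ.other_le_cent hL hne hxL)

/-- A Sylow 2-subgroup of the centraliser meets each component in a Sylow 2-subgroup. -/
theorem exists_sylow_C {W : Subgroup G} (hW : IsPGroup 2 W) (hWC : W ≤ C a) :
    ∃ S : Subgroup G, IsPGroup 2 S ∧ W ≤ S ∧ S ≤ C a ∧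
      ∀ J : Subgroup G, Intr a J → ∃ Q : Sylow 2 ↥J, ∀ x : J, x ∈ (Q : Subgroup J) ↔ (x : G) ∈ S := by
  haveI : Fact (Nat.Prime 2) := ⟨Nat.prime_two⟩
  obtain ⟨P, hP⟩ := (hW.comap_of_injective (C a).subtype (C a).subtype_injective).exists_le_sylow
  refine ⟨(P : Subgroup (C a)).map (C a).subtype, P.isPGroup'.map _, ?_, map_subtype_le _, fun J hJ => ?_⟩
  · intro x hx
    exact ⟨⟨x, hWC hx⟩, hP hx, rfl⟩
  have key : ∀ A : Subgroup (C a), A.IsSubnormal → Odd ((P : Subgroup (C a)).subgroupOf A).index := by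
    intro A hA
    induction hA using Subgroup.IsSubnormal.rec with
    | top =>
      rw [show ((P : Subgroup (C a)).subgroupOf ⊤).index = (P : Subgroup (C a)).index from
        relIndex_top_right _, Nat.odd_iff, ← Nat.two_dvd_ne_zero]
      exact P.not_dvd_index
    | step A B hAB _ hN ih =>
      have hp : IsPGroup 2 ((P : Subgroup (C a)).subgroupOf B) := P.isPGroup'.comap_of_injective _ B.subtype_injective
      have h2 : ¬ 2 ∣ ((P : Subgroup (C a)).subgroupOf B).index := by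
        rw [Nat.two_dvd_ne_zero]; exact Nat.odd_iff.mp ih
      haveI := hN
      have h := H33.ProductFusion.odd_relIndex_inf_normal (hp.toSylow h2) (A.subgroupOf B)
      rw [IsPGroup.toSylow_coe, inf_relIndex_right, relIndex_subgroupOf hAB] at h
      exact h
  have hk : Odd (((P : Subgroup (C a)).map (C a).subtype).subgroupOf J).index := by
    have h := key _ hJ.comp.1
    change Odd ((P : Subgroup (C a)).relIndex (J.subgroupOf (C a))) at h
    rw [← relIndex_map_map_of_injective (f := (C a).subtype) _ _ (C a).subtype_injective,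
      map_subgroupOf_eq_of_le hJ.le] at h
    exact h
  exact ⟨((P.isPGroup'.map _).comap_of_injective _ J.subtype_injective).toSylow (by
    rw [Nat.two_dvd_ne_zero]; exact Nat.odd_iff.mp hk), fun x => Iff.rfl⟩

end Cfsg.Agent.H33.IntrinsicSL2
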