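import Cfsg.Agent.H33.IntrinsicSL2.Pair

/-!
A 2-element moving a component has order four and splits the involution over two components.
-/

set_option autoImplicit false

namespace Cfsg.Agent.H33.IntrinsicSL2

open Subgroup
open scoped commutatorElement

variable {G : Type*} [Group G] [Finite G]

theorem Intr.mem_zpowers_of_two {a : G} {J : Subgroup G} (hJ : Intr a J) {w : G} (hw : w ∈ J)
    (h2 : Two w) (h1 : w ≠ 1) : a ∈ zpowers w := by
  haveI : Fact (Nat.Prime 2) := ⟨Nat.prime_two⟩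
  obtain ⟨k, hk⟩ := h2
  obtain ⟨i, -, hi⟩ := (Nat.dvd_prime_pow Nat.prime_two).mp (orderOf_dvd_of_pow_eq_one hk)
  have hi1 : 1 ≤ i := by
    rcases Nat.eq_zero_or_pos i with h | h
    · rw [h, pow_zero] at hi; exact absurd (orderOf_eq_one_iff.mp hi) h1
    · exact h
  have h : orderOf (w ^ 2 ^ (i - 1)) = 2 := by
    rw [orderOf_pow, hi, Nat.gcd_eq_right (pow_dvd_pow 2 (by omega)), Nat.pow_div (by omega) (by norm_num),
      show i - (i - 1) = 1 by omega, pow_one]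
  exact hJ.uniq _ (pow_mem hw _) h ▸ pow_mem (mem_zpowers w) _

/-- `z` fixes `K` when it commutes with an element of order at least four of `K`. -/
theorem Intr.cj_eq_of_commute {t z y : G} {K : Subgroup G} (hK : Intr t K) (hz : z ∈ C t) (hy : y ∈ K)
    (h2 : Two y) (hy4 : y * y ≠ 1) (hyz : y * z = z * y) : cj z K = K := by
  by_contra hne
  have hyK : y ∈ cj z K := by
    rw [mem_cj, mul_assoc, hyz, inv_mul_cancel_left]; exact hy
  rcases hK.inter_two (hK.conj_self hz) hne hy hyK h2 with h | h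
  · exact hy4 (by rw [h, one_mul])
  · exact hy4 (by rw [h]; exact hK.mul_self)

/-- The configuration left by a moved component. -/
theorem exists_config {z t : G} {J K : Subgroup G} (hJ : Intr z J) (hK : Intr t K) (hzt : z ≠ t)
    {y : G} (hy : y ∈ K) (hy2 : Two y) (hy4 : y * y ≠ 1) (hyz : y * z = z * y)
    (hyJ : cj (y * y) J = J) (hJ2 : cj y J ≠ J) {S : Subgroup G} (hS : IsPGroup 2 S) (hSC : S ≤ C z)
    (hyS : y ∈ S) {s : G} (hs : s ∈ J) (hsS : s ∈ S) (hs2 : s * s = z) (hts : t * s * t⁻¹ = s * z) :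
    y * y = t ∧ s * (y * s * y⁻¹) = y * s * y⁻¹ * s ∧
      cj (s * (y * s * y⁻¹)) K ≠ K ∧ z * y ∈ cj (s * (y * s * y⁻¹)) K ∧
      ∃ c ∈ J, ∃ c' ∈ cj y J, c * c = z ∧ c' * c' = z ∧ c * c' = c' * c ∧ t = c * c' := by
  haveI : Fact (Nat.Prime 2) := ⟨Nat.prime_two⟩
  have hzC : z ∈ C z := mem_C.mpr rfl
  have hzinv : z⁻¹ = z := inv_eq_of_mul_eq_one_right hJ.mul_self
  have hz1 : z ≠ 1 := ne_one_of_two hJ.ord
  have hpow : ∀ w ∈ zpowers y, ∀ g : G, g * y = y * g → g * w = w * g := fun w hw g hg => by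
    obtain ⟨i, rfl⟩ := mem_zpowers_iff.mp hw
    exact ((show Commute g y from hg).zpow_right i).eq
  have hy1 : y ≠ 1 := fun h => hy4 (by rw [h, one_mul])
  have htyy : t ∈ zpowers (y * y) := hK.mem_zpowers_of_two (mul_mem hy hy) (by rw [← pow_two]; exact hy2.pow 2) hy4
  have hty : t ∈ zpowers y := zpowers_le.mpr (mul_mem (mem_zpowers y) (mem_zpowers y)) htyy
  have htz : t * z = z * t := (hpow t hty z hyz.symm).symm
  have hyt : y * t = t * y := hpow t hty y rfl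
  have htS : t ∈ S := zpowers_le.mpr hyS hty
  have hyC : y ∈ C z := hSC hyS
  have hJy : Intr z (cj y J) := hJ.conj_self hyC
  have htinv : t⁻¹ = t := inv_eq_of_mul_eq_one_right hK.mul_self
  -- the involution `e`
  obtain ⟨u, hu⟩ : ∃ u, u = y * s * y⁻¹ := ⟨_, rfl⟩
  have huJ : u ∈ cj y J := hu ▸ conj_mem_cj hs
  have huS : u ∈ S := hu ▸ mul_mem (mul_mem hyS hsS) (inv_mem hyS)
  have hsu : s * u = u * s := hJ.comm_exact hJy hJ2.symm hS hs huJ hsS huS
  have huu : u * u = z := by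
    calc u * u = y * (s * s) * y⁻¹ := by rw [hu]; group
      _ = z := by rw [hs2, hyz, mul_inv_cancel_right]
  have htu : t * u * t⁻¹ = u * z := by
    calc t * u * t⁻¹ = (y * t) * s * (y * t)⁻¹ := by rw [hu, hyt]; group
      _ = y * (t * s * t⁻¹) * y⁻¹ := by group
      _ = y * s * (z * y⁻¹) := by rw [hts]; group
      _ = u * z := by
        rw [hu, show z * y⁻¹ = y⁻¹ * z from ((show Commute z y from hyz.symm).inv_right).eq]
        group
  rw [← hu]
  have hzs : s * z = z * s := mem_C.mp (hSC hsS)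
  have hzu : u * z = z * u := mem_C.mp (hSC huS)
  obtain ⟨e, he⟩ : ∃ e, e = s * u := ⟨_, rfl⟩
  rw [← he]
  have hee : e * e = 1 := by
    calc e * e = s * (u * s) * u := by rw [he]; group
      _ = (s * s) * (u * u) := by rw [← hsu]; group
      _ = 1 := by rw [hs2, huu]; exact hJ.mul_self
  have hte : t * e = e * t := by
    refine mul_inv_eq_iff_eq_mul.mp ?_
    calc t * e * t⁻¹ = (t * s * t⁻¹) * (t * u * t⁻¹) := by rw [he]; group
      _ = s * (z * u) * z := by rw [hts, htu]; group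
      _ = e * (z * z) := by rw [← hzu, he]; group
      _ = e := by rw [hJ.mul_self, mul_one]
  have heS : e ∈ S := he ▸ mul_mem hsS huS
  have heC : e ∈ C t := mem_C.mpr hte.symm
  obtain ⟨s2, hs2'⟩ : ∃ s2, s2 = y * y * s * (y * y)⁻¹ := ⟨_, rfl⟩
  have hs2J : s2 ∈ J := by rw [← hyJ, hs2']; exact conj_mem_cj hs
  have hs2S : s2 ∈ S := hs2' ▸ mul_mem (mul_mem (mul_mem hyS hyS) hsS) (inv_mem (mul_mem hyS hyS))
  have hus2 : u * s2 = s2 * u := (hJ.comm_exact hJy hJ2.symm hS hs2J huJ hs2S huS).symm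
  obtain ⟨x, hx⟩ : ∃ x, x = s * s2⁻¹ := ⟨_, rfl⟩
  have hxy : e * y * e⁻¹ = x * y := by
    calc e * y * e⁻¹ = s * u * (y * (u⁻¹ * s⁻¹) * y⁻¹) * y := by rw [he]; group
      _ = s * u * ((y * u * y⁻¹)⁻¹ * (y * s * y⁻¹)⁻¹) * y := by group
      _ = s * (u * s2⁻¹) * u⁻¹ * y := by rw [← hu, hs2', hu]; group
      _ = s * (s2⁻¹ * u) * u⁻¹ * y := by
        rw [((show Commute u s2 from hus2).inv_right).eq]
      _ = x * y := by rw [hx]; group
  have hxJ : x ∈ J := hx ▸ mul_mem hs (inv_mem hs2J)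
  have hxS : x ∈ S := hx ▸ mul_mem hsS (inv_mem hs2S)
  have hfalse : ∀ w ∈ zpowers y, t ∈ zpowers w → w * s * w⁻¹ ≠ s := by
    intro w _ hw h
    obtain ⟨i, hi⟩ := mem_zpowers_iff.mp hw
    have h1 : t * s * t⁻¹ = s := by
      rw [← hi]
      exact mul_inv_eq_iff_eq_mul.mpr ((show Commute w s from mul_inv_eq_iff_eq_mul.mp h).zpow_left i).eq
    rw [hts] at h1
    exact hz1 (mul_eq_left.mp h1)
  have hx1 : x ≠ 1 := fun h => hfalse (y * y) (mul_mem (mem_zpowers y) (mem_zpowers y)) htyy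
    (hs2'.symm.trans (mul_inv_eq_one.mp (hx.symm.trans h)).symm)
  have heK : cj e K ≠ K := by
    intro hfix
    have hxK : x ∈ K := by
      have h : x * y ∈ K := by rw [← hxy, ← hfix]; exact conj_mem_cj hy
      simpa using mul_mem h (inv_mem hy)
    have h2x : Two x := Two.of_mem hS hxS
    obtain ⟨i, hi⟩ := mem_zpowers_iff.mp (hJ.mem_zpowers_of_two hxJ h2x hx1)
    exact hzt (hK.uniq z (hi ▸ zpow_mem hxK i) hJ.ord)
  have hKe : Intr t (cj e K) := hK.conj_self heC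
  have hxyK : x * y ∈ cj e K := hxy ▸ conj_mem_cj hy
  have hyx : y * (x * y) = x * y * y :=
    hK.comm_exact hKe heK.symm hS hy hxyK hyS (mul_mem hxS hyS)
  have hxz : x = z := by
    have hcomm : y * x * y⁻¹ = x := by
      rw [mul_inv_eq_iff_eq_mul]
      exact mul_right_cancel (b := y) (by rw [mul_assoc, hyx])
    exact (hJ.inter_two hJy hJ2 hxJ (hcomm ▸ conj_mem_cj hxJ) (Two.of_mem hS hxS)).resolve_left hx1
  have hs2z : s2 = s * z := by
    have h : s2 = x⁻¹ * s := by rw [hx]; group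
    rw [h, hxz, hzinv, hzs]
  have hyt2 : y * y = t := by
    by_contra hne
    have hyy4 : y * y * (y * y) ≠ 1 := fun h => hne (hK.uniq _ (mul_mem hy hy) (orderOf_eq_two h hy4))
    refine hfalse (y * y * (y * y)) (mul_mem (mul_mem (mem_zpowers y) (mem_zpowers y))
      (mul_mem (mem_zpowers y) (mem_zpowers y)))
      (hK.mem_zpowers_of_two (mul_mem (mul_mem hy hy) (mul_mem hy hy))
        (Two.of_mem hS (mul_mem (mul_mem hyS hyS) (mul_mem hyS hyS))) hyy4) ?_
    have hzyy : y * y * z * (y * y)⁻¹ = z := by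
      rw [mul_inv_eq_iff_eq_mul, mul_assoc, hyz, ← mul_assoc, hyz, mul_assoc]
    calc y * y * (y * y) * s * (y * y * (y * y))⁻¹ = y * y * (y * y * s * (y * y)⁻¹) * (y * y)⁻¹ := by group
      _ = y * y * (s * z) * (y * y)⁻¹ := by rw [← hs2', hs2z]
      _ = (y * y * s * (y * y)⁻¹) * (y * y * z * (y * y)⁻¹) := by group
      _ = s := by rw [← hs2', hs2z, hzyy, mul_assoc, hJ.mul_self, mul_one]
  refine ⟨hyt2, he.trans hsu, heK, ?_, ?_⟩
  · rw [← hxz]; exact hxyK
  -- the elements of `C z` of square `z` with product `t`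
  have hzyK : z * y ∈ cj e K := hxz ▸ hxyK
  obtain ⟨P, hP, hSP, hPC, hPS⟩ := exists_sylow_C (a := t) (hS.to_le (inf_le_left : S ⊓ C t ≤ S))
    inf_le_right
  have hyP : y ∈ P := hSP ⟨hyS, mem_C.mpr hyt⟩
  have hzyP : z * y ∈ P := hSP ⟨mul_mem (hxz ▸ hxS) hyS, hKe.le hzyK⟩
  obtain ⟨QK, hQK⟩ := hPS K hK
  obtain ⟨sk, hskP, -, hsk⟩ := hK.uperf.exists_inverted QK ((hQK ⟨y, hy⟩).mpr hyP) (Subtype.ext hyt2)
  have hsky : (sk : G) * y * (sk : G)⁻¹ = y⁻¹ := congrArg Subtype.val hsk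
  have hskzy : (sk : G) * (z * y) = z * y * sk :=
    hK.comm_exact hKe heK.symm hP sk.2 hzyK ((hQK sk).mp hskP) hzyP
  have hskz : (sk : G) * z * (sk : G)⁻¹ = z * t := by
    calc (sk : G) * z * (sk : G)⁻¹ = (sk : G) * (z * y) * (sk : G)⁻¹ * ((sk : G) * y * (sk : G)⁻¹)⁻¹ := by group
      _ = z * y * y := by rw [hskzy, mul_inv_cancel_right, hsky, inv_inv]
      _ = z * t := by rw [mul_assoc, hyt2]
  have hskt : (sk : G) * t * (sk : G)⁻¹ = t := mul_inv_eq_iff_eq_mul.mpr (mem_C.mp (hK.le sk.2))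
  have hst : s * t * s⁻¹ = t * z := by
    have h : t * s = s * z * t := mul_inv_eq_iff_eq_mul.mp hts
    rw [mul_inv_eq_iff_eq_mul, mul_assoc t z s, ← hzs, ← mul_assoc, h, mul_assoc (s * z), htz, ← mul_assoc,
      mul_assoc s z z, hJ.mul_self, mul_one]
  obtain ⟨g, hg⟩ : ∃ g, g = (sk : G) * s := ⟨_, rfl⟩
  have hgt : g * t * g⁻¹ = z := by
    calc g * t * g⁻¹ = (sk : G) * (s * t * s⁻¹) * (sk : G)⁻¹ := by rw [hg]; group
      _ = ((sk : G) * t * (sk : G)⁻¹) * ((sk : G) * z * (sk : G)⁻¹) := by rw [hst]; group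
      _ = z := by rw [hskt, hskz, ← mul_assoc, htz, mul_assoc, hK.mul_self, mul_one]
  have hgz : g * z * g⁻¹ = z * t := by
    calc g * z * g⁻¹ = (sk : G) * (s * z) * s⁻¹ * (sk : G)⁻¹ := by rw [hg]; group
      _ = z * t := by rw [hzs, ← hskz]; group
  obtain ⟨A, hA⟩ : ∃ A, A = cj g K := ⟨_, rfl⟩
  obtain ⟨B, hB⟩ : ∃ B, B = cj g (cj e K) := ⟨_, rfl⟩
  have hAI : Intr z A := by rw [hA, ← hgt]; exact hK.conj g
  have hBI : Intr z B := by rw [hB, ← hgt]; exact hKe.conj g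
  have hAB : A ≠ B := fun h => heK (cj_inj ((hB.symm.trans h.symm).trans hA))
  obtain ⟨a, ha⟩ : ∃ a, a = g * y * g⁻¹ := ⟨_, rfl⟩
  obtain ⟨b, hb⟩ : ∃ b, b = g * (z * y) * g⁻¹ := ⟨_, rfl⟩
  have haA : a ∈ A := by rw [ha, hA]; exact conj_mem_cj hy
  have hbB : b ∈ B := by rw [hb, hB]; exact conj_mem_cj hzyK
  have haa : a * a = z := by
    rw [← hgt, ← hyt2, ha]; group
  have hbb : b * b = z := by
    calc b * b = g * (z * (y * z) * y) * g⁻¹ := by rw [hb]; group
      _ = g * ((z * z) * (y * y)) * g⁻¹ := by rw [hyz]; group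
      _ = z := by rw [hJ.mul_self, one_mul, hyt2, hgt]
  have hab : a * b = b * a := by
    calc a * b = g * (y * z * y) * g⁻¹ := by rw [ha, hb]; group
      _ = b * a := by rw [hyz, ha, hb]; group
  have htab : t = a * b := by
    calc t = z * (z * t) := by rw [← mul_assoc, hJ.mul_self, one_mul]
      _ = g * t * g⁻¹ * (g * z * g⁻¹) := by rw [hgt, hgz]
      _ = g * (z * (y * y)) * g⁻¹ := by rw [← hyt2, hyt2, ← htz]; group
      _ = g * (y * z * y) * g⁻¹ := by rw [hyz, mul_assoc z y y]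
      _ = a * b := by rw [ha, hb]; group
  have hmoved : ∀ {L : Subgroup G} {v : G}, Intr z L → v ∈ L → t * v * t⁻¹ = v * z → v * z = z * v →
      L = A ∨ L = B := by
    intro L v hL hv htv hvz
    by_contra h
    push Not at h
    have hc := ((mem_cent hL.le).mp (show t ∈ cent z L from htab ▸ mul_mem
      (hL.other_le_cent hAI h.1.symm haA) (hL.other_le_cent hBI h.2.symm hbB))).2 v hv
    rw [commutatorElement_def, htv, hvz, mul_inv_cancel_right] at hc
    exact hz1 (core_two hc (Two.of_sq hJ.mul_self))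
  rcases hmoved hJ hs hts hzs with h | h <;> rcases hmoved hJy huJ htu hzu with h' | h'
  · exact absurd (h'.trans h.symm) hJ2
  · exact ⟨a, h ▸ haA, b, h' ▸ hbB, haa, hbb, hab, htab⟩
  · exact ⟨b, h ▸ hbB, a, h' ▸ haA, hbb, haa, hab.symm, htab.trans hab⟩
  · exact absurd (h'.trans h.symm) hJ2

end Cfsg.Agent.H33.IntrinsicSL2
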