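import Cfsg.Agent.H33.IntrinsicSL2.Pair

/-!
The endgame for part (i): the crossed configuration of two intrinsic components is impossible.
-/

set_option autoImplicit false

namespace Cfsg.Agent.H33.IntrinsicSL2

open Subgroup
open scoped Pointwise commutatorElement

variable {G : Type*} [Group G] [Finite G]

omit [Finite G] in
theorem conj_mem_barS {a : G} {J : Subgroup G} (g : C a) {x : Bar a} (hx : x ∈ barS a J) :
    bar a g * x * (bar a g)⁻¹ ∈ barS a (cj (g : G) J) := by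
  obtain ⟨j, hj, rfl⟩ := hx
  exact ⟨g * j * g⁻¹, conj_mem_cj hj, by simp⟩

theorem Intr.bar_commute {a : G} {J L : Subgroup G} (hJ : Intr a J) (hL : Intr a L) (hne : J ≠ L)
    {x x' : Bar a} (hx : x ∈ barS a J) (hx' : x' ∈ barS a L) : x * x' = x' * x := by
  obtain ⟨j, hj, rfl⟩ := hx
  obtain ⟨l, hl, rfl⟩ := hx'
  rw [← commutatorElement_eq_one_iff_mul_comm, ← map_commutatorElement, bar_eq_one]
  exact hJ.comm_core hL hne hj hl

omit [Finite G] in
theorem bar_self_comm {a : G} (ha : a ∈ C a) (x : Bar a) :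
    bar a ⟨a, ha⟩ * x = x * bar a ⟨a, ha⟩ := by
  obtain ⟨g, rfl⟩ := QuotientGroup.mk'_surjective _ x
  rw [← map_mul, ← map_mul]
  exact congrArg _ (Subtype.ext (mem_C.mp g.2).symm)

/-- Pairing a component with its conjugate gives a homomorphism modulo the core. -/
theorem Intr.exists_pair {a : G} {J : Subgroup G} (hJ : Intr a J) (g : C a) (hne : cj (g : G) J ≠ J) :
    ∃ φ : ↥(barS a J) →* Bar a,
      ∀ x : ↥(barS a J), φ x = (x : Bar a) * (bar a g * (x : Bar a) * (bar a g)⁻¹) := by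
  refine ⟨MonoidHom.mk' (fun x : ↥(barS a J) => (x : Bar a) * (bar a g * (x : Bar a) * (bar a g)⁻¹))
    fun x w => ?_, fun x => rfl⟩
  have h := hJ.bar_commute (hJ.conj_self g.2) hne.symm w.2 (conj_mem_barS g x.2)
  rw [Subgroup.coe_mul]
  generalize bar a g = Y at h ⊢
  calc (x : Bar a) * w * (Y * (x * w) * Y⁻¹) =
        x * ((w : Bar a) * (Y * x * Y⁻¹)) * (Y * w * Y⁻¹) := by group
    _ = x * ((Y * x * Y⁻¹) * (w : Bar a)) * (Y * w * Y⁻¹) := by rw [h]
    _ = x * (Y * x * Y⁻¹) * ((w : Bar a) * (Y * w * Y⁻¹)) := by group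

/-- A class modulo the core commuting with an involution has a commuting lift. -/
theorem exists_lift {a v : G} (hv : v ∈ C a) (hv2 : v * v = 1) {x : Bar a}
    (hx : bar a ⟨v, hv⟩ * x = x * bar a ⟨v, hv⟩) : ∃ l : C a, (l : G) ∈ C v ∧ bar a l = x := by
  obtain ⟨⟨x0, h0⟩, rfl⟩ := QuotientGroup.mk'_surjective _ x
  have hvi : v⁻¹ = v := inv_eq_of_mul_eq_one_right hv2
  have hb : bar a ((⟨x0, h0⟩ : C a)⁻¹ * (⟨v, hv⟩ * ⟨x0, h0⟩ * (⟨v, hv⟩ : C a)⁻¹)) = 1 := by
    rw [map_mul, map_mul, map_mul, hx, map_inv, map_inv, mul_inv_cancel_right, inv_mul_cancel]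
  have hr : x0⁻¹ * (v * x0 * v⁻¹) ∈ core a := bar_eq_one.mp hb
  obtain ⟨k, hk⟩ := exists_fixed_mul (MulAut.conj v).toMonoidHom (x := x0) (core_odd hr)
    (by simp [mul_assoc]) (by
      show v * (x0⁻¹ * (v * x0 * v⁻¹)) * v⁻¹ = _
      have h2 : v⁻¹ * v⁻¹ = 1 := by rw [hvi, hv2]
      calc v * (x0⁻¹ * (v * x0 * v⁻¹)) * v⁻¹ = v * x0⁻¹ * v * x0 * (v⁻¹ * v⁻¹) := by group
        _ = v * x0⁻¹ * v⁻¹ * x0 := by rw [h2, mul_one, hvi]
        _ = (x0⁻¹ * (v * x0 * v⁻¹))⁻¹ := by group)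
  refine ⟨⟨x0, h0⟩ * ((⟨x0, h0⟩ : C a)⁻¹ * (⟨v, hv⟩ * ⟨x0, h0⟩ * (⟨v, hv⟩ : C a)⁻¹)) ^ k, ?_, ?_⟩
  · refine mem_C.mpr ?_
    have hk' : v * (x0 * (x0⁻¹ * (v * x0 * v⁻¹)) ^ k) * v⁻¹ = x0 * (x0⁻¹ * (v * x0 * v⁻¹)) ^ k := hk
    exact (mul_inv_eq_iff_eq_mul.mp hk').symm
  · rw [map_mul, map_pow, hb, one_pow, mul_one]

/-- Two congruent involutions of the centraliser are conjugate by an element of the core. -/
theorem exists_core_conj {a x v : G} (hx : x * x = 1) (hv : v * v = 1) (h : v * x ∈ core a) :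
    ∃ g ∈ core a, g * x * g⁻¹ = v := by
  obtain ⟨k, hk⟩ := exists_half (core_odd h)
  refine ⟨(v * x) ^ k, pow_mem h k, ?_⟩
  have hxi : x⁻¹ = x := inv_eq_of_mul_eq_one_right hx
  have hvi : v⁻¹ = v := inv_eq_of_mul_eq_one_right hv
  have h0 : SemiconjBy x (v * x) (v * x)⁻¹ := by
    show x * (v * x) = (v * x)⁻¹ * x
    rw [mul_inv_rev, hxi, hvi, mul_assoc]
  have h1 : x * (v * x) ^ k = ((v * x) ^ k)⁻¹ * x := by
    have := (h0.pow_right k).eq
    rwa [inv_pow] at this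
  generalize (v * x) ^ k = g at hk h1 ⊢
  calc g * x * g⁻¹ = g * (g * (g⁻¹ * x)) * g⁻¹ := by group
    _ = g * (g * (x * g)) * g⁻¹ := by rw [h1]
    _ = (g * g) * x := by group
    _ = v := by rw [hk, mul_assoc, hx, mul_one]

/-- Modulo the core of `C z` the involution `t` is moved to `e` and back. -/
theorem endgame_axis {z t : G} {J : Subgroup G} (hJ : Intr z J) {y s c c' : G}
    (hy : y ∈ C z) (ht : t ∈ C z) (hyt : y * y = t) (ht2 : t * t = 1) (hJ2 : cj y J ≠ J)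
    (htJ : cj t J = J) (hs : s ∈ J) (hs2 : s * s = z) (hts : t * s * t⁻¹ = s * z)
    (hc : c ∈ J) (hc' : c' ∈ cj y J) (hc2 : c * c = z) (hc'2 : c' * c' = z) (htc : t = c * c')
    (he2 : s * (y * s * y⁻¹) * (s * (y * s * y⁻¹)) = 1)
    (het : t * (s * (y * s * y⁻¹)) = s * (y * s * y⁻¹) * t) :
    ∃ v H f : G, (v = s * (y * s * y⁻¹) ∨ v = s * (y * s * y⁻¹) * z) ∧ H ∈ C z ∧
      H * t * H⁻¹ = v ∧ (f = v ∨ f = t * (s * (y * s * y⁻¹))) ∧ f * (H⁻¹ * t * H) ∈ core z := by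
  have hJ2i : Intr z (cj y J) := hJ.conj_self hy
  set zC : C z := ⟨z, hJ.le hJ.mem⟩
  set sC : C z := ⟨s, hJ.le hs⟩
  set cC : C z := ⟨c, hJ.le hc⟩
  set dC : C z := ⟨c', hJ2i.le hc'⟩
  set tC : C z := ⟨t, ht⟩
  set yC : C z := ⟨y, hy⟩
  set eC : C z := sC * (yC * sC * yC⁻¹)
  obtain ⟨φ, hφ⟩ := hJ.exists_pair yC hJ2
  have H1 := hJ.uperf_bar
  set zB : ↥(barS z J) := ⟨bar z zC, bar_mem_barS hJ.mem _⟩ with hzB
  set sB : ↥(barS z J) := ⟨bar z sC, bar_mem_barS hs _⟩ with hsB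
  set cB : ↥(barS z J) := ⟨bar z cC, bar_mem_barS hc _⟩ with hcB
  have hZc : ∀ x : Bar z, bar z zC * x = x * bar z zC := bar_self_comm _
  have hsB2 : sB * sB = zB := Subtype.ext (by
    show bar z sC * bar z sC = bar z zC
    rw [← map_mul]; exact congrArg _ (Subtype.ext hs2))
  have hcB2 : cB * cB = zB := Subtype.ext (by
    show bar z cC * bar z cC = bar z zC
    rw [← map_mul]; exact congrArg _ (Subtype.ext hc2))
  have hZ2 : bar z zC * bar z zC = 1 := congrArg Subtype.val H1.mul_self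
  have hφz : φ zB = 1 := by
    rw [hφ]
    show bar z zC * (bar z yC * bar z zC * (bar z yC)⁻¹) = 1
    rw [← hZc, mul_inv_cancel_right, hZ2]
  have hφinv : ∀ x : ↥(barS z J), x * x = zB → φ x⁻¹ = φ x := fun x hx => by
    rw [map_inv]
    exact inv_eq_of_mul_eq_one_right (by rw [← map_mul, hx, hφz])
  have hφs : φ sB = bar z eC := by
    rw [hφ]
    show bar z sC * (bar z yC * bar z sC * (bar z yC)⁻¹) = _
    simp only [eC, map_mul, map_inv]
  -- the class of `t`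
  have hT : bar z tC = bar z cC * bar z dC := by
    rw [← map_mul]; exact congrArg _ (Subtype.ext htc)
  have hYT : bar z yC * bar z tC * (bar z yC)⁻¹ = bar z tC := by
    rw [← map_inv, ← map_mul, ← map_mul]
    refine congrArg _ (Subtype.ext ?_)
    show y * t * y⁻¹ = t
    rw [← hyt]; group
  have hdJ2 : bar z dC ∈ barS z (cj y J) := bar_mem_barS hc' _
  have hA : bar z yC * bar z dC * (bar z yC)⁻¹ ∈ barS z J := by
    have h := conj_mem_barS yC hdJ2
    rwa [show cj (yC : G) (cj y J) = J by rw [cj_cj]; rw [show (yC : G) * y = t from hyt, htJ]] at h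
  have hB : bar z yC * bar z cC * (bar z yC)⁻¹ ∈ barS z (cj y J) := conj_mem_barS yC cB.2
  set AB : ↥(barS z J) := ⟨_, hA⟩ with hAB
  have hAB2 : AB * AB = zB := Subtype.ext (by
    show bar z yC * bar z dC * (bar z yC)⁻¹ * (bar z yC * bar z dC * (bar z yC)⁻¹) = bar z zC
    calc _ = bar z yC * (bar z dC * bar z dC) * (bar z yC)⁻¹ := by group
      _ = bar z yC * bar z zC * (bar z yC)⁻¹ := by
        rw [← map_mul (bar z) dC dC, show dC * dC = zC from Subtype.ext hc'2]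
      _ = bar z zC := by rw [← hZc, mul_inv_cancel_right])
  have hprod : (AB : Bar z) * (bar z yC * bar z cC * (bar z yC)⁻¹) = bar z cC * bar z dC := by
    rw [hJ.bar_commute hJ2i hJ2.symm AB.2 hB, ← hT]
    conv_rhs => rw [← hYT, hT]
    show bar z yC * bar z cC * (bar z yC)⁻¹ * (bar z yC * bar z dC * (bar z yC)⁻¹) = _
    group
  have hcomm : cB * AB = AB * cB := by
    have hx : (AB : Bar z)⁻¹ * bar z cC = bar z yC * bar z cC * (bar z yC)⁻¹ * (bar z dC)⁻¹ := by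
      rw [inv_mul_eq_iff_eq_mul, ← mul_assoc, eq_mul_inv_iff_mul_eq, ← hprod]
    have h := hJ.bar_commute hJ2i hJ2.symm cB.2
      (show (AB : Bar z)⁻¹ * bar z cC ∈ barS z (cj y J) from hx ▸ mul_mem hB (inv_mem hdJ2))
    have h' : Commute cB AB⁻¹ := by
      refine mul_right_cancel (b := cB) ?_
      refine Subtype.ext ?_
      rw [mul_assoc AB⁻¹ cB cB, mul_assoc cB AB⁻¹ cB]
      show bar z cC * ((AB : Bar z)⁻¹ * bar z cC) = (AB : Bar z)⁻¹ * (bar z cC * bar z cC)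
      rw [show bar z cC * ((AB : Bar z)⁻¹ * bar z cC) = _ from h, mul_assoc]
    exact (Commute.inv_right_iff.mp h').eq
  obtain ⟨w, hw, hTw⟩ : ∃ w : C z, (w = 1 ∨ w = zC) ∧ bar z tC = φ cB * bar z w := by
    rw [hT, ← hprod, hφ]
    rcases H1.eq_or_inv hcB2 hAB2 hcomm with h | h
    · exact ⟨1, Or.inl rfl, by rw [h, map_one, mul_one]⟩
    · refine ⟨zC, Or.inr rfl, ?_⟩
      rw [h, H1.inv_of_sq hcB2]
      show bar z cC * bar z zC * (bar z yC * bar z cC * (bar z yC)⁻¹) = _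
      rw [mul_assoc, hZc, ← mul_assoc]
  have hWc : ∀ x : Bar z, bar z w * x = x * bar z w := by
    intro x
    rcases hw with h | h <;> rw [h]
    · rw [map_one, one_mul, mul_one]
    · exact hZc x
  -- the anticommuting pair
  have hcs : cB * sB * cB⁻¹ = sB⁻¹ := by
    rw [H1.inv_of_sq hsB2]
    refine Subtype.ext ?_
    show bar z cC * bar z sC * (bar z cC)⁻¹ = bar z sC * bar z zC
    have h0 := hJ.bar_commute hJ2i hJ2.symm sB.2 hdJ2
    have h1 : bar z tC * bar z sC * (bar z tC)⁻¹ = bar z sC * bar z zC := by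
      rw [← map_inv, ← map_mul, ← map_mul, ← map_mul]
      exact congrArg _ (Subtype.ext hts)
    rw [← h1, hT]
    calc bar z cC * bar z sC * (bar z cC)⁻¹
        = bar z cC * (bar z sC * bar z dC) * (bar z dC)⁻¹ * (bar z cC)⁻¹ := by group
      _ = bar z cC * (bar z dC * bar z sC) * (bar z dC)⁻¹ * (bar z cC)⁻¹ := by rw [show bar z sC * bar z dC = bar z dC * bar z sC from h0]
      _ = _ := by group
  obtain ⟨h, hh1, hh2⟩ := H1.axes hcB2 hsB2 hcs
  have hcs2 := (mul_pair_sq H1 hcs hcB2 hsB2).1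
  have e1 : φ h * bar z tC * (φ h)⁻¹ = bar z eC * bar z w := by
    rw [hTw, mul_assoc _ _ (φ h)⁻¹, mul_assoc _ (bar z w), hWc, ← mul_assoc, ← mul_assoc, ← map_inv,
      ← map_mul, ← map_mul, ← hφs]
    rcases hh1 with h' | h' <;> rw [h']
    rw [hφinv _ hsB2]
  have e2 : (φ h)⁻¹ * bar z tC * φ h = bar z eC * bar z w ∨
      (φ h)⁻¹ * bar z tC * φ h = bar z tC * bar z eC := by
    have : (φ h)⁻¹ * bar z tC * φ h = φ (h⁻¹ * cB * h) * bar z w := by
      rw [map_mul, map_mul, map_inv, hTw, mul_assoc _ _ (φ h), mul_assoc _ (bar z w), hWc,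
        ← mul_assoc, ← mul_assoc]
    rw [this]
    have hlast : φ (cB * sB) * bar z w = bar z tC * bar z eC := by
      rw [map_mul, hTw, hφs, mul_assoc, mul_assoc, hWc]
    rcases hh2 with h' | h' | h' | h' <;> rw [h']
    · exact Or.inl (by rw [hφs])
    · exact Or.inl (by rw [hφinv _ hsB2, hφs])
    · exact Or.inr hlast
    · exact Or.inr (by rw [hφinv _ hcs2, hlast])
  -- lifting
  obtain ⟨H0, hH0⟩ := QuotientGroup.mk'_surjective _ (φ h)
  set vC : C z := eC * w with hvC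
  have hv : (vC : G) = s * (y * s * y⁻¹) ∨ (vC : G) = s * (y * s * y⁻¹) * z := by
    rcases hw with h' | h' <;> rw [hvC, h']
    · left; rw [mul_one]; rfl
    · right; rfl
  have hez : s * (y * s * y⁻¹) * z = z * (s * (y * s * y⁻¹)) := mem_C.mp eC.2
  have hv2 : (vC : G) * (vC : G) = 1 := by
    rcases hv with h' | h' <;> rw [h']
    · exact he2
    · calc _ = s * (y * s * y⁻¹) * (z * (s * (y * s * y⁻¹))) * z := by group
        _ = s * (y * s * y⁻¹) * (s * (y * s * y⁻¹)) * (z * z) := by rw [← hez]; group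
        _ = 1 := by rw [he2, hJ.mul_self, one_mul]
  have hTT : bar z (H0 * tC * H0⁻¹) = bar z vC := by
    rw [map_mul, map_mul, map_inv, hvC, map_mul, ← e1, ← hH0]
  have hx2 : ((H0 * tC * H0⁻¹ : C z) : G) * ((H0 * tC * H0⁻¹ : C z) : G) = 1 := by
    show (H0 : G) * t * (H0 : G)⁻¹ * ((H0 : G) * t * (H0 : G)⁻¹) = 1
    calc _ = (H0 : G) * (t * t) * (H0 : G)⁻¹ := by group
      _ = 1 := by rw [ht2]; group
  have hmem : (vC : G) * ((H0 * tC * H0⁻¹ : C z) : G) ∈ core z := by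
    refine (bar_eq_one (x := vC * (H0 * tC * H0⁻¹))).mp ?_
    rw [map_mul, hTT, ← map_mul, ← map_one (bar z)]
    exact congrArg _ (Subtype.ext hv2)
  obtain ⟨g, hg, hgv⟩ := exists_core_conj hx2 hv2 hmem
  set gC : C z := ⟨g, core_le z hg⟩
  have hgb : bar z gC = 1 := bar_eq_one.mpr hg
  set HC : C z := gC * H0
  have hHC : bar z HC = φ h := by rw [map_mul, hgb, one_mul, ← hH0]
  have hHt : (HC : G) * t * (HC : G)⁻¹ = vC := by
    rw [← hgv]
    show g * (H0 : G) * t * (g * (H0 : G))⁻¹ = g * ((H0 : G) * t * (H0 : G)⁻¹) * g⁻¹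
    group
  have hb : bar z (HC⁻¹ * tC * HC) = (φ h)⁻¹ * bar z tC * φ h := by
    rw [map_mul, map_mul, map_inv, hHC]
  have hfin : ∀ fC : C z, (fC : G) * fC = 1 → (φ h)⁻¹ * bar z tC * φ h = bar z fC →
      (fC : G) * ((HC : G)⁻¹ * t * (HC : G)) ∈ core z := fun fC h2 h' => by
    refine (bar_eq_one (x := fC * (HC⁻¹ * tC * HC))).mp ?_
    rw [map_mul, hb, h', ← map_mul, ← map_one (bar z)]
    exact congrArg _ (Subtype.ext h2)
  rcases e2 with h' | h'
  · exact ⟨vC, HC, vC, hv, HC.2, hHt, Or.inl rfl, hfin vC hv2 (h'.trans (map_mul (bar z) eC w).symm)⟩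
  · refine ⟨vC, HC, _, hv, HC.2, hHt, Or.inr rfl, hfin (tC * eC) ?_ (h'.trans (map_mul (bar z) tC eC).symm)⟩
    show t * (s * (y * s * y⁻¹)) * (t * (s * (y * s * y⁻¹))) = 1
    nth_rw 2 [het]
    calc _ = t * (s * (y * s * y⁻¹) * (s * (y * s * y⁻¹))) * t := by group
      _ = 1 := by rw [he2, mul_one, ht2]

/-- The endgame of part (i). -/
theorem endgame {z t : G} {J K : Subgroup G} (hJ : Intr z J) (hK : Intr t K) (hzt : z ≠ t)
    {y s c c' : G} (hy : y ∈ K) (hyt : y * y = t) (hyz : y * z = z * y) (hJ2 : cj y J ≠ J)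
    (hyJ : cj (y * y) J = J) (hs : s ∈ J) (hs2 : s * s = z) (hts : t * s * t⁻¹ = s * z)
    (hsy : s * (y * s * y⁻¹) = y * s * y⁻¹ * s) (hc : c ∈ J) (hc' : c' ∈ cj y J) (hc2 : c * c = z)
    (hc'2 : c' * c' = z) (hcc : c * c' = c' * c) (htc : t = c * c')
    (he : cj (s * (y * s * y⁻¹)) K ≠ K) (hzy : z * y ∈ cj (s * (y * s * y⁻¹)) K) : False := by
  have hyC : y ∈ C z := mem_C.mpr hyz
  have htC : t ∈ C z := hyt ▸ mul_mem hyC hyC
  have ht2 : t * t = 1 := hK.mul_self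
  have hz2 : z * z = 1 := hJ.mul_self
  have hzCt : z ∈ C t := mem_C.mpr (mem_C.mp htC).symm
  have hzz : z ∈ C z := mem_C.mpr rfl
  have htt : t ∈ C t := mem_C.mpr rfl
  obtain ⟨e, hedef⟩ : ∃ e, e = s * (y * s * y⁻¹) := ⟨_, rfl⟩
  have hsz : s * z = z * s := mem_C.mp (hJ.le hs)
  have heCz : e ∈ C z := hedef ▸ mul_mem (hJ.le hs) (mul_mem (mul_mem hyC (hJ.le hs)) (inv_mem hyC))
  have he2 : e * e = 1 := by
    have hyz' : y * z * y⁻¹ = z := mul_inv_eq_iff_eq_mul.mpr hyz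
    rw [hedef]
    nth_rw 2 [hsy]
    calc _ = s * (y * (s * s) * y⁻¹) * s := by group
      _ = s * z * s := by rw [hs2, hyz']
      _ = s * s * z := by rw [hsz, mul_assoc, hs2, hz2]
      _ = z * z := by rw [hs2]
      _ = 1 := hz2
  have hys : t * (y * s * y⁻¹) * t⁻¹ = y * s * y⁻¹ * z := by
    calc _ = y * (t * s * t⁻¹) * y⁻¹ := by rw [← hyt]; group
      _ = y * s * (z * y⁻¹) := by rw [hts]; group
      _ = y * s * (y⁻¹ * z) := by rw [((show Commute y z from hyz).inv_left).eq]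
      _ = _ := by group
  have het : t * e = e * t := by
    refine mul_inv_eq_iff_eq_mul.mp ?_
    calc t * e * t⁻¹ = (t * s * t⁻¹) * (t * (y * s * y⁻¹) * t⁻¹) := by rw [hedef]; group
      _ = s * (z * (y * s * y⁻¹)) * z := by rw [hts, hys]; group
      _ = s * ((y * s * y⁻¹) * z) * z := by
        rw [show z * (y * s * y⁻¹) = y * s * y⁻¹ * z from
          (mem_C.mp (mul_mem (mul_mem hyC (hJ.le hs)) (inv_mem hyC))).symm]
      _ = e := by rw [← mul_assoc, mul_assoc (s * _), hz2, mul_one, hedef]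
  have heCt : e ∈ C t := mem_C.mpr het.symm
  have hye : y * e * y⁻¹ = e * z := by
    calc y * e * y⁻¹ = (y * s * y⁻¹) * (y * y * s * (y * y)⁻¹) := by rw [hedef]; group
      _ = (y * s * y⁻¹) * (s * z) := by rw [hyt, hts]
      _ = e * z := by rw [hedef, hsy]; group
  obtain ⟨v, H, f, hv', hH, hHt, hf, hfc⟩ := endgame_axis hJ hyC htC hyt ht2 hJ2 (hyt ▸ hyJ) hs hs2
    hts hc hc' hc2 hc'2 htc (hedef ▸ he2) (hedef ▸ het)
  rw [← hedef] at hv' hf he hzy
  -- `z` fixes `K`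
  have hy4 : Two y := ⟨2, by rw [show 2 ^ 2 = 2 + 2 from rfl, pow_add, pow_two, hyt, ht2]⟩
  have hy1 : ¬ (y = 1 ∨ y = t) := by
    rintro (h | h)
    · rw [h, one_mul] at hyt; exact ne_one_of_two hK.ord hyt.symm
    · rw [h, ht2] at hyt; exact ne_one_of_two hK.ord hyt.symm
  have hzK : cj z K = K := by
    by_contra hne
    refine hy1 (hK.inter_two (hK.conj_self hzCt) hne hy ?_ hy4)
    rw [mem_cj, mul_assoc, hyz, inv_mul_cancel_left]
    exact hy
  have hK2 : Intr t (cj e K) := hK.conj_self heCt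
  have hvK : cj v K = cj e K := by
    rcases hv' with rfl | rfl
    · rfl
    · rw [← cj_cj, hzK]
  have hvz : v ∈ C z := by rcases hv' with rfl | rfl; exacts [heCz, mul_mem heCz hzz]
  have hvt : v ∈ C t := by rcases hv' with rfl | rfl; exacts [heCt, mul_mem heCt hzCt]
  have hv2 : v * v = 1 := by
    rcases hv' with rfl | rfl
    · exact he2
    · rw [mul_assoc, ← mul_assoc z e z, ← mem_C.mp heCz, mul_assoc e z z, hz2, mul_one, he2]
  -- `z` acts trivially on exactly the other components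
  have hsplit : y⁻¹ * (z * y) = z := by rw [← hyz, inv_mul_cancel_left]
  have hcentne : ∀ L : Subgroup G, Intr t L → K ≠ L → cj e K ≠ L → z ∈ cent t L := fun L hL h1 h2 =>
    hsplit ▸ mul_mem (inv_mem (hL.other_le_cent hK h1 hy)) (hL.other_le_cent hK2 h2 hzy)
  have hzK' : z ∉ cent t K := by
    intro h
    have h1 : z⁻¹ * (z * y) ∈ cent t K := mul_mem (inv_mem h) (hK.other_le_cent hK2 he hzy)
    rw [inv_mul_cancel_left] at h1
    exact hy1 (hK.cent_two hy hy4 h1)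
  have hpair : ∀ g : G, g ∈ C t → g ∈ C z → cj g K = K ∨ cj g K = cj e K := by
    intro g hg hgz
    by_contra hcon
    push Not at hcon
    have h1 := conj_mem_cent (hK.conj_self hg).le (inv_mem hg)
      (hcentne _ (hK.conj_self hg) hcon.1.symm hcon.2.symm)
    rw [cj_cj, inv_mul_cancel, cj_one, inv_inv, mul_assoc, ← mem_C.mp hgz, inv_mul_cancel_left] at h1
    exact hzK' h1
  -- `t' = H⁻¹ t H` moves `K`
  have hvtc : v * t = t * v := mem_C.mp hvt
  have ht'z : H⁻¹ * t * H ∈ C z := mul_mem (mul_mem (inv_mem hH) htC) hH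
  have ht't : H⁻¹ * t * H ∈ C t := by
    refine mem_C.mpr ?_
    calc H⁻¹ * t * H * t = H⁻¹ * (t * (H * t * H⁻¹)) * H := by group
      _ = H⁻¹ * ((H * t * H⁻¹) * t) * H := by rw [hHt, hvtc]
      _ = t * (H⁻¹ * t * H) := by group
  have htK : t ∈ normalizer (K : Set G) := Subgroup.le_normalizer hK.mem
  have hfz : f ∈ C z := by rcases hf with rfl | rfl; exacts [hvz, mul_mem htC heCz]
  have hft : f ∈ C t := by rcases hf with rfl | rfl; exacts [hvt, mul_mem htt heCt]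
  have hfK : f ∉ normalizer (K : Set G) := by
    rw [← cj_eq_iff]
    rcases hf with rfl | rfl
    · rw [hvK]; exact he
    · rw [het, ← cj_cj, cj_eq_iff.mpr htK]; exact he
  have ht'K : H⁻¹ * t * H ∉ normalizer (K : Set G) := by
    intro h
    obtain ⟨q, hq⟩ : ∃ q, q = f * (H⁻¹ * t * H) := ⟨_, rfl⟩
    rw [← hq] at hfc
    have hqz : q ∈ C z := hq ▸ mul_mem hfz ht'z
    have hqt : q ∈ C t := hq ▸ mul_mem hft ht't
    have hqK : q ∈ normalizer (K : Set G) := by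
      obtain ⟨k, hk⟩ := exists_half (core_odd hfc)
      have h2 : q * q ∈ normalizer (K : Set G) := by
        rw [← cj_eq_iff]
        rcases hpair q hqt hqz with h1 | h1
        · rw [← cj_cj, h1, h1]
        · refine (hpair _ (mul_mem hqt hqt) (mul_mem hqz hqz)).resolve_right fun h2 => he ?_
          rw [← cj_cj, h1] at h2
          exact cj_inj (g := q) (h2.trans h1.symm)
      have : (q * q) ^ k ∈ normalizer (K : Set G) := pow_mem h2 k
      rwa [(Commute.refl q).mul_pow, hk] at this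
    refine hfK ?_
    have := mul_mem hqK (inv_mem h)
    rwa [hq, mul_inv_cancel_right] at this
  have hM : Intr v (cj H K) := hHt ▸ hK.conj H
  have htM : t ∉ normalizer (cj H K : Set G) := by
    rw [← cj_eq_iff]
    intro h
    rw [cj_cj, show t * H = H * (H⁻¹ * t * H) by group, ← cj_cj] at h
    exact ht'K (cj_eq_iff.mp (cj_inj h))
  -- `z` fixes every component of `C v`
  have hzfix : ∀ L : Subgroup G, Intr v L → cj z L = L := by
    intro L hL
    have h1 : Intr t (cj H⁻¹ L) := by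
      have := hL.conj H⁻¹
      rwa [← hHt, show H⁻¹ * (H * t * H⁻¹) * H⁻¹⁻¹ = t by group] at this
    have h2 : cj z (cj H⁻¹ L) = cj H⁻¹ L :=
      cj_eq_iff.mpr (hsplit ▸ mul_mem (inv_mem (h1.le_normalizer hK hy)) (h1.le_normalizer hK2 hzy))
    have h3 := congrArg (cj H) h2
    rw [cj_cj, cj_cj H, show H * z = z * H from mem_C.mp hH, mul_inv_cancel, cj_one, ← cj_cj z H,
      cj_cj H, mul_inv_cancel, cj_one] at h3
    exact h3
  have hconjz : ∀ l ∈ C v, ∀ L : Subgroup G, Intr v L →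
      l * z * l⁻¹ ∈ normalizer (L : Set G) := by
    intro l hl L hL
    rw [← cj_eq_iff, ← cj_cj, ← cj_cj, hzfix _ (hL.conj_self (inv_mem hl)), cj_cj, mul_inv_cancel,
      cj_one]
  -- the pairing modulo the core of `C t`
  set vC : C t := ⟨v, hvt⟩
  obtain ⟨δ, hδ⟩ := hK.exists_pair vC (show cj v K ≠ K from hvK ▸ he)
  have H2 := hK.uperf_bar
  set tB : ↥(barS t K) := ⟨bar t ⟨t, hK.le hK.mem⟩, bar_mem_barS hK.mem _⟩ with htB
  set yB : ↥(barS t K) := ⟨bar t ⟨y, hK.le hy⟩, bar_mem_barS hy _⟩ with hyB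
  have hδt : δ tB = 1 := by
    rw [hδ]
    show bar t ⟨t, _⟩ * (bar t vC * bar t ⟨t, _⟩ * (bar t vC)⁻¹) = 1
    rw [← bar_self_comm, mul_inv_cancel_right]
    exact congrArg Subtype.val H2.mul_self
  have hδinv : ∀ x : ↥(barS t K), x * x = tB → δ x⁻¹ = δ x := fun x hx => by
    rw [map_inv]
    exact inv_eq_of_mul_eq_one_right (by rw [← map_mul, hx, hδt])
  have hyB2 : yB * yB = tB := Subtype.ext (by
    show bar t ⟨y, _⟩ * bar t ⟨y, _⟩ = bar t ⟨t, _⟩
    rw [← map_mul]; exact congrArg _ (Subtype.ext hyt))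
  have hδfix : ∀ x, bar t vC * δ x = δ x * bar t vC := by
    intro x
    have h2 : bar t vC * bar t vC = 1 := by
      rw [← map_mul, ← map_one (bar t)]; exact congrArg _ (Subtype.ext hv2)
    have h := hK.bar_commute (hK.conj_self hvt) (fun h => he (hvK ▸ h.symm)) x.2
      (conj_mem_barS vC x.2)
    rw [hδ]
    conv_rhs => rw [h]
    have h3 : (bar t vC)⁻¹ = bar t vC := inv_eq_of_mul_eq_one_right h2
    rw [h3]
    simp only [← mul_assoc]
  obtain ⟨u, hu⟩ : ∃ u, u = z * t := ⟨_, rfl⟩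
  have hvy : v * y * v⁻¹ = z * y := by
    have hev : e * y * e⁻¹ = z * y := by
      rw [inv_eq_of_mul_eq_one_right he2]
      calc e * y * e = e * (y * e) := by group
        _ = e * (e * z * y) := by rw [mul_inv_eq_iff_eq_mul.mp hye]
        _ = z * y := by rw [← mul_assoc, ← mul_assoc, he2, one_mul]
    rcases hv' with rfl | rfl
    · exact hev
    · calc e * z * y * (e * z)⁻¹ = e * (z * y * z⁻¹) * e⁻¹ := by group
        _ = z * y := by rw [show z * y * z⁻¹ = y by rw [← hyz, mul_inv_cancel_right], hev]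
  have huC : u ∈ C t := hu ▸ mul_mem hzCt htt
  have huv : u ∈ C v :=
    hu ▸ mul_mem (mem_C.mpr (mem_C.mp hvz).symm) (mem_C.mpr hvtc.symm)
  have hδy : δ yB = bar t ⟨u, huC⟩ := by
    rw [hδ]
    show bar t ⟨y, _⟩ * (bar t vC * bar t ⟨y, _⟩ * (bar t vC)⁻¹) = _
    rw [← map_inv, ← map_mul, ← map_mul, ← map_mul]
    refine congrArg _ (Subtype.ext ?_)
    show y * (v * y * v⁻¹) = u
    rw [hvy, hu, ← mul_assoc, hyz, mul_assoc, hyt]
  haveI : Fact (Nat.Prime 2) := ⟨Nat.prime_two⟩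
  obtain ⟨Q, hQ⟩ : ∃ Q : Sylow 2 ↥(barS t K), zpowers yB ≤ (Q : Subgroup _) := by
    refine IsPGroup.exists_le_sylow (Two.zpowers ⟨2, ?_⟩)
    rw [show 2 ^ 2 = 2 + 2 from rfl, pow_add, pow_two, hyB2, H2.mul_self]
  obtain ⟨σ, -, hσ2, hσy⟩ := H2.exists_inverted Q (hQ (mem_zpowers yB)) hyB2
  have hprod2 := (mul_pair_sq H2 hσy hσ2 hyB2).1
  obtain ⟨k, hk⟩ := H2.fusion hyB2 hσ2
  obtain ⟨k', hk'⟩ := H2.fusion hyB2 hprod2
  obtain ⟨l, hlv, hl⟩ := exists_lift hvt hv2 (hδfix k)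
  obtain ⟨l', hlv', hl'⟩ := exists_lift hvt hv2 (hδfix k')
  set uC : C t := ⟨u, huC⟩
  have E1 : bar t (l * uC * l⁻¹) = δ σ := by
    rw [map_mul, map_mul, map_inv, hl, ← hδy, ← map_inv, ← map_mul, ← map_mul]
    rcases hk with h | h <;> rw [h]
    exact hδinv _ hσ2
  have E2 : bar t (l' * uC * l'⁻¹) = δ (σ * yB) := by
    rw [map_mul, map_mul, map_inv, hl', ← hδy, ← map_inv, ← map_mul, ← map_mul]
    rcases hk' with h | h <;> rw [h]
    exact hδinv _ hprod2
  obtain ⟨r, hr⟩ : ∃ r : C t, r = (l' * uC * l'⁻¹)⁻¹ * (l * uC * l⁻¹) * uC := ⟨_, rfl⟩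
  have hrcore : (r : G) ∈ core t := by
    refine bar_eq_one.mp ?_
    rw [hr, map_mul, map_mul, map_inv, E2, E1, ← hδy, map_mul, mul_assoc, inv_mul_cancel]
  -- `r t` fixes every component of `C v`
  have hrt : (r : G) * t ∈ normalizer (cj H K : Set G) := by
    have htl : ∀ g : C t, (g : G) * t = t * g := fun g => mem_C.mp g.2
    have hform : (r : G) * t =
        ((l' : G) * z * (l' : G)⁻¹)⁻¹ * ((l : G) * z * (l : G)⁻¹) * (1 * z * 1⁻¹) := by
      have h3 : ∀ g : C t, (g : G) * u * (g : G)⁻¹ = (g : G) * z * (g : G)⁻¹ * t := fun g => by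
        rw [hu, show (g : G) * (z * t) * (g : G)⁻¹ = (g : G) * z * (t * (g : G)⁻¹) by group,
          show t * (g : G)⁻¹ = (g : G)⁻¹ * t from (htl g⁻¹).symm, ← mul_assoc]
      rw [hr, one_mul, inv_one, mul_one]
      show ((l' : G) * u * (l' : G)⁻¹)⁻¹ * ((l : G) * u * (l : G)⁻¹) * u * t = _
      rw [h3, h3]
      generalize hA : (l' : G) * z * (l' : G)⁻¹ = A
      generalize hB : (l : G) * z * (l : G)⁻¹ = B
      have hBt : B * t = t * B := hB ▸ mem_C.mp (mul_mem (mul_mem l.2 hzCt) (inv_mem l.2))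
      have hAt : A * t = t * A := hA ▸ mem_C.mp (mul_mem (mul_mem l'.2 hzCt) (inv_mem l'.2))
      rw [hAt, mul_inv_rev, hu]
      calc A⁻¹ * t⁻¹ * (B * t) * (z * t) * t
          = A⁻¹ * t⁻¹ * (B * t) * z * (t * t) := by group
        _ = A⁻¹ * t⁻¹ * (t * B) * z := by rw [ht2, mul_one, hBt]
        _ = A⁻¹ * B * z := by group
    rw [hform]
    exact mul_mem (mul_mem (inv_mem (hconjz _ hlv' _ hM)) (hconjz _ hlv _ hM))
      (hconjz 1 (one_mem _) _ hM)
  refine htM ?_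
  have hpow : ((r : G) * t) ^ orderOf (r : G) = t := by
    obtain ⟨m, hm⟩ := core_odd hrcore
    rw [(show Commute (r : G) t from mem_C.mp r.2).mul_pow, pow_orderOf_eq_one, one_mul, hm,
      pow_succ, pow_mul, pow_two, ht2, one_pow, one_mul]
  exact hpow ▸ pow_mem hrt _

end Cfsg.Agent.H33.IntrinsicSL2
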