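import Cfsg.Agent.H33.IntrinsicSL2.Pair
import Cfsg.Agent.H33.IntrinsicSL2.CyclicCentralizer
import Cfsg.Agent.H33.IntrinsicSL2.Psi

/-!
No quaternion group with an element of order three squares to a product of two square roots.
-/

set_option autoImplicit false

namespace Cfsg.Agent.H33.IntrinsicSL2

open Subgroup
open scoped commutatorElement

variable {G : Type*} [Group G] [Finite G] {a : G} {J J2 : Subgroup G}

theorem commutator_of_inverted {p q h e : G} (he : e * e = 1) (hp : p * p = e) (hq : q * q = e)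
    (hpq : p * q * p⁻¹ = q⁻¹) (h1 : h * p * h⁻¹ = q ∨ h * p * h⁻¹ = q⁻¹)
    (h2 : h * q * h⁻¹ = p * q ∨ h * q * h⁻¹ = (p * q)⁻¹) :
    ⁅⁅h, p⁆, ⁅h, q⁆⁆ = e := by
  have hei : e⁻¹ = e := inv_eq_of_mul_eq_one_right he
  have hpi : p⁻¹ = p * e := inv_eq_of_mul_eq_one_right (by rw [← mul_assoc, hp, he])
  have hqi : q⁻¹ = q * e := inv_eq_of_mul_eq_one_right (by rw [← mul_assoc, hq, he])
  have hep : p * e = e * p := by rw [← hp, mul_assoc]
  have heq : q * e = e * q := by rw [← hq, mul_assoc]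
  have hqp : q * p = p * q * e := by
    have e1 : p * q = q⁻¹ * p := mul_inv_eq_iff_eq_mul.mp hpq
    rw [e1, hqi, mul_assoc q e p, ← hep, mul_assoc q, mul_assoc p, he, mul_one]
  have hqpi : q * p * q⁻¹ = p⁻¹ := by
    rw [hqp, hpi, hqi, mul_assoc (p * q), ← mul_assoc e q e, ← heq, mul_assoc q e e, he, mul_one,
      mul_assoc, hq]
  have hqpi' : q⁻¹ * p * q = p⁻¹ := by
    calc q⁻¹ * p * q = q⁻¹ * (q * p * q⁻¹)⁻¹ * q := by rw [hqpi, inv_inv]
      _ = p⁻¹ := by group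
  have x2 : ⁅h, q⁆ = p ∨ ⁅h, q⁆ = p⁻¹ := by
    rcases h2 with h2 | h2 <;> rw [commutatorElement_def, h2]
    · left; group
    · right
      calc (p * q)⁻¹ * q⁻¹ = q⁻¹ * p⁻¹ * q * (q * q)⁻¹ := by group
        _ = (q⁻¹ * p * q)⁻¹ * e := by rw [hq, hei]; group
        _ = p⁻¹ := by rw [hqpi', inv_inv, hpi]
  have x1 : ∀ x : G, x * p * x⁻¹ = p⁻¹ → ⁅x * p⁻¹, p⁆ = e ∧ ⁅x * p⁻¹, p⁻¹⁆ = e := by
    intro x hx
    constructor
    · calc ⁅x * p⁻¹, p⁆ = x * p * x⁻¹ * p⁻¹ := by rw [commutatorElement_def]; group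
        _ = (p * p)⁻¹ := by rw [hx]; group
        _ = e := by rw [hp, hei]
    · calc ⁅x * p⁻¹, p⁻¹⁆ = (x * p * x⁻¹)⁻¹ * p := by rw [commutatorElement_def]; group
        _ = p * p := by rw [hx, inv_inv]
        _ = e := hp
  have hx : ∀ x : G, h * p * h⁻¹ = x → ⁅h, p⁆ = x * p⁻¹ := fun x hx => by
    rw [commutatorElement_def, hx]
  rcases h1 with h1 | h1 <;> rw [hx _ h1] <;> rcases x2 with h3 | h3 <;> rw [h3]
  · exact (x1 q hqpi).1
  · exact (x1 q hqpi).2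
  · exact (x1 q⁻¹ (by rw [inv_inv]; exact hqpi')).1
  · exact (x1 q⁻¹ (by rw [inv_inv]; exact hqpi')).2

/-- The final contradiction of part (ii). -/
theorem no_quaternion_root (hJ : Intr a J) (hJ2 : Intr a J2) (hne : J2 ≠ J) {c c' p q h e : G}
    (hc : c ∈ J) (hc2 : c * c = a) (hc' : c' ∈ J2) (hc'2 : c' * c' = a) (hcc : e = c * c')
    (he : e * e = 1) (hpC : p ∈ C a) (hqC : q ∈ C a) (hhC : h ∈ C a) (hp : p * p = e) (hq : q * q = e)
    (hpq : p * q * p⁻¹ = q⁻¹) (ho : Odd (orderOf h)) (h1 : h * p * h⁻¹ = q ∨ h * p * h⁻¹ = q⁻¹)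
    (h2 : h * q * h⁻¹ = p * q ∨ h * q * h⁻¹ = (p * q)⁻¹) : False := by
  haveI : Fact (Nat.Prime 2) := ⟨Nat.prime_two⟩
  have hei : e⁻¹ = e := inv_eq_of_mul_eq_one_right he
  have hqe : q * e = e * q := by rw [← hq, mul_assoc]
  have hpe : p * e = e * p := by rw [← hp, mul_assoc]
  have hhe : h * e = e * h := by
    refine mul_inv_eq_iff_eq_mul.mp ?_
    calc h * e * h⁻¹ = (h * p * h⁻¹) * (h * p * h⁻¹) := by rw [← hp]; group
      _ = e := by rcases h1 with h1 | h1 <;> rw [h1]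
                  · exact hq
                  · rw [← mul_inv_rev, hq, hei]
  let E : Subgroup G := C a ⊓ centralizer ({e} : Set G)
  have hEe : ∀ g ∈ E, g * (c * c') = c * c' * g := fun g hg => hcc ▸ mem_centralizer_singleton_iff.mp hg.2
  have hEp : ∀ g ∈ E, cj g J = J ∨ cj g J = J2 := fun g hg =>
    hJ.pair hJ2 hne hc hc2 hc' hg.1 (hEe g hg)
  have hpE : p ∈ E := ⟨hpC, mem_centralizer_singleton_iff.mpr hpe⟩
  have hqE : q ∈ E := ⟨hqC, mem_centralizer_singleton_iff.mpr hqe⟩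
  have hhE : h ∈ E := ⟨hhC, mem_centralizer_singleton_iff.mpr hhe⟩
  have two : ∀ g ∈ E, ∀ k ∈ E, cj g J ≠ J → cj k J ≠ J → cj (g * k) J = J := by
    intro g hg k hk hgJ hkJ
    rcases hEp _ (mul_mem hg hk) with h | h
    · exact h
    · have h' : cj g J2 = J2 := by rwa [← cj_cj, (hEp k hk).resolve_left hkJ] at h
      exact absurd (cj_inj (h'.trans ((hEp g hg).resolve_left hgJ).symm)) hne
  have hfix : ∀ g : G, cj g J = J → g ∈ normalizer (J : Set G) := fun g hg => cj_eq_iff.mp hg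
  have hhN : h ∈ normalizer (J : Set G) := by
    by_contra hn
    have h0 : cj h J ≠ J := fun h' => hn (hfix h h')
    have hsq : h * h ∈ normalizer (J : Set G) := hfix _ (two h hhE h hhE h0 h0)
    obtain ⟨k, hk⟩ := exists_half ho
    exact hn (by rw [← hk, ← (Commute.refl h).mul_pow]; exact pow_mem hsq k)
  have conjfix : ∀ x, x ∈ normalizer (J : Set G) ↔ h * x * h⁻¹ ∈ normalizer (J : Set G) := fun x =>
    ⟨fun hx => mul_mem (mul_mem hhN hx) (inv_mem hhN), fun hx => by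
      simpa [mul_assoc] using mul_mem (mul_mem (inv_mem hhN) hx) hhN⟩
  have hpq' : p ∈ normalizer (J : Set G) ↔ q ∈ normalizer (J : Set G) := by
    rw [conjfix p]; rcases h1 with h1 | h1 <;> rw [h1]
    exact inv_mem_iff
  have hqx : q ∈ normalizer (J : Set G) ↔ p * q ∈ normalizer (J : Set G) := by
    rw [conjfix q]; rcases h2 with h2 | h2 <;> rw [h2]
    exact inv_mem_iff
  have hqN : q ∈ normalizer (J : Set G) := by
    by_contra hn
    exact hn (hqx.mpr (hfix _ (two p hpE q hqE (fun h' => hn (hpq'.mp (hfix _ h')))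
      (fun h' => hn (hfix _ h')))))
  have hpN : p ∈ normalizer (J : Set G) := hpq'.mpr hqN
  -- the action on the image of `J`
  let F : Subgroup G := E ⊓ normalizer (J : Set G)
  have hFJ : ∀ g : F, bar a ⟨g, g.2.1.1⟩ ∈ normalizer (barS a J : Set (Bar a)) := by
    intro g
    refine le_normalizer_map _ ⟨⟨(g : G), g.2.1.1⟩, ?_, rfl⟩
    rw [← subgroupOf_normalizer_eq hJ.le]
    exact g.2.2
  let α : F →* MulAut (barS a J) := (barS a J).normalizerMonoidHom.comp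
    (MonoidHom.mk' (fun g : F => (⟨bar a ⟨g, g.2.1.1⟩, hFJ g⟩ : normalizer (barS a J : Set (Bar a))))
      fun x y => Subtype.ext (map_mul (bar a) ⟨(x : G), x.2.1.1⟩ ⟨(y : G), y.2.1.1⟩))
  have hα : ∀ (g : F) (x : barS a J),
      ((α g x : barS a J) : Bar a) = bar a ⟨g, g.2.1.1⟩ * x * (bar a ⟨g, g.2.1.1⟩)⁻¹ := fun g x => rfl
  set cb : barS a J := ⟨bar a ⟨c, hJ.le hc⟩, bar_mem_barS hc _⟩ with hcb
  set cb' : Bar a := bar a ⟨c', hJ2.le hc'⟩ with hcb'
  have H := hJ.uperf_bar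
  set zb : barS a J := ⟨bar a ⟨a, hJ.le hJ.mem⟩, bar_mem_barS hJ.mem _⟩ with hzb
  have hcb2 : cb * cb = zb := Subtype.ext (by
    show bar a _ * bar a _ = bar a _
    rw [← map_mul]; exact congrArg (bar a) (Subtype.ext hc2))
  have hc'comm : ∀ x : barS a J, (x : Bar a) * cb' = cb' * x := fun x =>
    hJ.bar_comm hJ2 hne x.2 (bar_mem_barS hc' _)
  have heb : ∀ (he' : e ∈ C a), bar a ⟨e, he'⟩ = cb * cb' := fun he' => by
    rw [hcb, hcb', ← map_mul]; exact congrArg (bar a) (Subtype.ext hcc)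
  obtain ⟨Q, hQ⟩ : ∃ Q : Sylow 2 (barS a J), cb ∈ (Q : Subgroup (barS a J)) := by
    obtain ⟨Q, hQ⟩ := ((show Two cb from ⟨2, by
      rw [show 2 ^ 2 = 2 + 2 from rfl, pow_add, pow_two, hcb2, H.mul_self]⟩).zpowers).exists_le_sylow
    exact ⟨Q, hQ (mem_zpowers cb)⟩
  obtain ⟨w, -, -, hw⟩ := H.exists_inverted Q hQ hcb2
  rw [H.inv_of_sq hcb2] at hw
  -- `α g cb` differs from `cb` by a central element
  have hcen : ∀ g : F, ∀ x : barS a J, α g cb * cb⁻¹ * x = x * (α g cb * cb⁻¹) := by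
    intro g x
    have heC : e ∈ C a := hp ▸ mul_mem hpC hpC
    have h3 : bar a ⟨(g : G), g.2.1.1⟩ * bar a ⟨e, heC⟩ * (bar a ⟨(g : G), g.2.1.1⟩)⁻¹ = bar a ⟨e, heC⟩ := by
      rw [mul_inv_eq_iff_eq_mul, ← map_mul, ← map_mul]
      exact congrArg (bar a) (Subtype.ext (mem_centralizer_singleton_iff.mp g.2.1.2))
    set gb := bar a ⟨(g : G), g.2.1.1⟩ with hgb
    rw [heb, hcb'] at h3
    have hy : ((α g cb * cb⁻¹ : barS a J) : Bar a) = cb' * (gb * cb' * gb⁻¹)⁻¹ := by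
      rw [coe_mul, coe_inv, hα]
      have hc1 := hc'comm cb⁻¹
      rw [coe_inv] at hc1
      calc gb * (cb : Bar a) * gb⁻¹ * (cb : Bar a)⁻¹
          = gb * ((cb : Bar a) * cb') * gb⁻¹ * (gb * cb' * gb⁻¹)⁻¹ * (cb : Bar a)⁻¹ := by group
        _ = (cb : Bar a) * cb' * (gb * cb' * gb⁻¹)⁻¹ * (cb : Bar a)⁻¹ := by rw [h3]
        _ = _ := by
          have hg' : (gb * cb' * gb⁻¹)⁻¹ * (cb : Bar a)⁻¹ = (cb : Bar a)⁻¹ * (gb * cb' * gb⁻¹)⁻¹ := by
            have h4 : (gb⁻¹ * (cb : Bar a)⁻¹ * gb) ∈ barS a J := by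
              have := ((mem_normalizer_iff.mp (inv_mem (hFJ g)) _).mp (inv_mem cb.2))
              simpa [hgb] using this
            have h5 := hc'comm ⟨_, h4⟩
            calc (gb * cb' * gb⁻¹)⁻¹ * (cb : Bar a)⁻¹ = gb * (cb'⁻¹ * (gb⁻¹ * (cb : Bar a)⁻¹ * gb)) * gb⁻¹ := by group
              _ = gb * ((gb⁻¹ * (cb : Bar a)⁻¹ * gb) * cb'⁻¹) * gb⁻¹ := by
                rw [((show Commute _ cb' from h5).inv_right).eq]
              _ = _ := by group
          rw [mul_assoc ((cb : Bar a) * cb'), hg', hc'comm cb]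
          group
    refine Subtype.ext ?_
    show ((α g cb * cb⁻¹ : barS a J) : Bar a) * x = x * ((α g cb * cb⁻¹ : barS a J) : Bar a)
    rw [hy]
    have h6 : (x : Bar a) * (gb * cb' * gb⁻¹) = gb * cb' * gb⁻¹ * x := by
      have h4 : (gb⁻¹ * (x : Bar a) * gb) ∈ barS a J := by
        have := ((mem_normalizer_iff.mp (inv_mem (hFJ g)) _).mp x.2)
        simpa [hgb] using this
      have h5 := hc'comm ⟨_, h4⟩
      calc (x : Bar a) * (gb * cb' * gb⁻¹) = gb * ((gb⁻¹ * (x : Bar a) * gb) * cb') * gb⁻¹ := by group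
        _ = gb * (cb' * (gb⁻¹ * (x : Bar a) * gb)) * gb⁻¹ := by rw [h5]
        _ = _ := by group
    have h7 : Commute (x : Bar a) (cb' * (gb * cb' * gb⁻¹)⁻¹) :=
      (show Commute (x : Bar a) cb' from hc'comm x).mul_right (show Commute (x : Bar a) _ from h6).inv_right
    exact h7.eq.symm
  have hconj : ∀ g : F, ∀ u : barS a J, u * α g cb * u⁻¹ * (α g cb)⁻¹ = u * cb * u⁻¹ * cb⁻¹ := by
    intro g u
    obtain ⟨y, hy, hyc, hyX⟩ : ∃ y, α g cb = y * cb ∧ u * y = y * u ∧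
        ∀ x, y * x = x * y :=
      ⟨α g cb * cb⁻¹, (inv_mul_cancel_right _ _).symm, (hcen g u).symm, hcen g⟩
    calc u * α g cb * u⁻¹ * (α g cb)⁻¹ = (u * y) * cb * u⁻¹ * cb⁻¹ * y⁻¹ := by rw [hy]; group
      _ = y * (u * cb * u⁻¹ * cb⁻¹) * y⁻¹ := by rw [hyc]; group
      _ = (u * cb * u⁻¹ * cb⁻¹) * y * y⁻¹ := by rw [← hyX]
      _ = _ := mul_inv_cancel_right _ _
  set U : Subgroup (barS a J) := centralizer {cb}
  have hUmem : ∀ u, u ∈ U ↔ u * cb * u⁻¹ * cb⁻¹ = 1 := fun u => by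
    rw [mem_centralizer_singleton_iff, mul_inv_eq_one, mul_inv_eq_iff_eq_mul]
  have hUs : ∀ g : F, ∀ u ∈ U, α g u ∈ U := by
    intro g u hu
    rw [hUmem] at hu ⊢
    rw [← hconj g, ← map_inv, ← map_inv, ← map_mul, ← map_mul, ← map_mul, hu, map_one]
  have hwz : w * cb * w⁻¹ * cb⁻¹ = zb := by rw [hw, mul_assoc, ← H.comm, mul_inv_cancel_left]
  have hw' : ∀ g : F, w⁻¹ * α g w ∈ U := by
    intro g
    have h3 : α g w * cb * (α g w)⁻¹ * cb⁻¹ = zb := by
      rw [← hconj g, ← map_inv, ← map_inv, ← map_mul, ← map_mul, ← map_mul, hwz]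
      exact H.uniq _ ((MulEquiv.orderOf_eq (α g) zb).trans H.ord)
    rw [hUmem]
    rw [← hwz, mul_left_inj] at h3
    calc w⁻¹ * α g w * cb * (w⁻¹ * α g w)⁻¹ * cb⁻¹ = w⁻¹ * (α g w * cb * (α g w)⁻¹) * w * cb⁻¹ := by group
      _ = 1 := by rw [h3]; group
  have heF : e ∈ F := hp ▸ mul_mem (⟨hpE, hpN⟩ : p ∈ F) ⟨hpE, hpN⟩
  have hcom : (⟨e, heF⟩ : F) ∈ ⁅commutator F, commutator F⁆ := by
    have := commutator_mem_commutator
      (commutator_mem_commutator (mem_top (⟨h, hhE, hhN⟩ : F)) (mem_top ⟨p, hpE, hpN⟩))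
      (commutator_mem_commutator (mem_top (⟨h, hhE, hhN⟩ : F)) (mem_top ⟨q, hqE, hqN⟩))
    rw [← _root_.commutator_def] at this
    convert this using 1
    exact Subtype.ext (commutator_of_inverted he hp hq hpq h1 h2).symm
  have hodd := crossed_odd α U (fun T hTU hT => H.isCyclic_of_centralises_root hcb2 hT hTU) hUs w hw' hcom
  have hval : w⁻¹ * α ⟨e, heF⟩ w = zb := by
    have h3 : α ⟨e, heF⟩ w = cb * w * cb⁻¹ := by
      refine Subtype.ext ?_
      rw [hα, heb, coe_mul, coe_mul, coe_inv]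
      calc (cb : Bar a) * cb' * w * ((cb : Bar a) * cb')⁻¹ = cb * (cb' * w) * cb'⁻¹ * (cb : Bar a)⁻¹ := by group
        _ = _ := by rw [← hc'comm w]; group
    have h4 : w⁻¹ * (cb * zb) * w = cb := by rw [← hw]; group
    calc w⁻¹ * α ⟨e, heF⟩ w = w⁻¹ * cb * w * cb⁻¹ := by rw [h3]; group
      _ = (w⁻¹ * (cb * zb) * w) * (w⁻¹ * zb⁻¹ * w) * cb⁻¹ := by group
      _ = zb := by
        rw [h4]
        have h5 : w⁻¹ * zb⁻¹ * w = zb := by rw [H.inv_eq]; simpa using H.conj w⁻¹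
        rw [h5, mul_assoc, ← H.comm, mul_inv_cancel_left]
  rw [hval, H.ord] at hodd
  exact absurd hodd (by decide)

end Cfsg.Agent.H33.IntrinsicSL2
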