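import Cfsg.Agent.H33.IntrinsicSL2.Comp
import Cfsg.Agent.H33.IntrinsicSL2.CyclicCentralizer
import Cfsg.Agent.H33.IntrinsicSL2.Psi

/-!
A quaternion pair in a 2-component fixed by a given involution of the fourth derived subgroup of
the stabiliser.
-/

set_option autoImplicit false

namespace Cfsg.Agent.H33.IntrinsicSL2

open Subgroup
open scoped Pointwise commutatorElement

set_option linter.style.haveILetI false

variable {G : Type*} [Group G]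

/-- The odd power that is a 2-element. -/
theorem exists_two_pow [Finite G] (x : G) : ∃ m : ℕ, Odd m ∧ Two (x ^ m) := by
  obtain ⟨k, m, hm, e⟩ := Nat.exists_eq_two_pow_mul_odd (orderOf_pos x).ne'
  exact ⟨m, hm, k, by rw [← pow_mul, mul_comm, ← e, pow_orderOf_eq_one]⟩

theorem pow_odd_of_sq {t : G} (ht : t * t = 1) {m : ℕ} (hm : Odd m) : t ^ m = t := by
  obtain ⟨j, rfl⟩ := hm
  rw [pow_succ, pow_mul, pow_two, ht, one_pow, one_mul]

theorem conj_pow_odd {x s : G} (h : x * s * x⁻¹ = s⁻¹) {m : ℕ} (hm : Odd m) :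
    x ^ m * s * (x ^ m)⁻¹ = s⁻¹ := by
  obtain ⟨j, rfl⟩ := hm
  induction j with
  | zero => simpa using h
  | succ j ih =>
    have h2 : x * x * s * (x * x)⁻¹ = s := by
      calc _ = x * (x * s * x⁻¹) * x⁻¹ := by group
        _ = x * s⁻¹ * x⁻¹ := by rw [h]
        _ = (x * s * x⁻¹)⁻¹ := by group
        _ = s := by rw [h, inv_inv]
    calc x ^ (2 * (j + 1) + 1) * s * (x ^ (2 * (j + 1) + 1))⁻¹
        = x ^ (2 * j + 1) * (x * x * s * (x * x)⁻¹) * (x ^ (2 * j + 1))⁻¹ := by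
          rw [show 2 * (j + 1) + 1 = 2 * j + 1 + 2 by ring, pow_add, pow_two]; group
      _ = s⁻¹ := by rw [h2, ih]

/-- The odd elements of a subgroup with cyclic 2-subgroups. -/
theorem exists_odd_part [Finite G] (U : Subgroup G)
    (hcyc : ∀ T : Subgroup G, T ≤ U → IsPGroup 2 ↥T → IsCyclic ↥T) :
    ∃ O : Subgroup G, ∀ x, x ∈ O ↔ x ∈ U ∧ Odd (orderOf x) := by
  obtain ⟨O, -, hO⟩ := odd_normal_complement (Kb := ↥U) fun T hT => by
    haveI : IsCyclic ↥(T.map U.subtype) := hcyc _ (map_subtype_le T) (hT.map _)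
    exact isCyclic_of_injective (T.equivMapOfInjective _ U.subtype_injective).toMonoidHom
      (T.equivMapOfInjective _ U.subtype_injective).injective
  refine ⟨O.map U.subtype, fun x => ⟨?_, fun ⟨hx, ho⟩ => ?_⟩⟩
  · rintro ⟨u, hu, rfl⟩
    exact ⟨u.2, by rw [Subgroup.coe_subtype, Subgroup.orderOf_coe]; exact (hO u).mp hu⟩
  · exact ⟨⟨x, hx⟩, (hO _).mpr (by rw [← Subgroup.orderOf_coe]; exact ho), rfl⟩

/-- `crossed_odd` for conjugation inside a group. -/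
theorem crossed_odd_conj [Finite G] {K E U : Subgroup G} (hE : E ≤ normalizer (K : Set G))
    (hUK : U ≤ K) (hcyc : ∀ T : Subgroup G, T ≤ U → IsPGroup 2 ↥T → IsCyclic ↥T)
    (hU : ∀ p ∈ E, ∀ u ∈ U, p * u * p⁻¹ ∈ U) {w : G} (hwK : w ∈ K)
    (hw : ∀ p ∈ E, w⁻¹ * (p * w * p⁻¹) ∈ U) {p : G} (hp : p ∈ ⁅⁅E, E⁆, ⁅E, E⁆⁆) :
    Odd (orderOf (w⁻¹ * (p * w * p⁻¹))) := by
  let α : ↥E →* MulAut ↥K := (Subgroup.normalizerMonoidHom K).comp (Subgroup.inclusion hE)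
  rw [← map_subtype_commutator E, ← map_commutator] at hp
  obtain ⟨q, hq, rfl⟩ := hp
  have h := crossed_odd α (U.subgroupOf K) (fun T hT hT2 => by
    haveI : IsCyclic ↥(T.map K.subtype) := hcyc _ (by
      rw [← map_subgroupOf_eq_of_le hUK]; exact map_mono hT) (hT2.map _)
    exact isCyclic_of_injective (T.equivMapOfInjective _ K.subtype_injective).toMonoidHom
      (T.equivMapOfInjective _ K.subtype_injective).injective)
    (fun p u hu => hU p p.2 u hu) ⟨w, hwK⟩ (fun p => hw p p.2) hq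
  rw [← Subgroup.orderOf_coe] at h
  exact h

variable [Finite G] {t : G} {K : Subgroup G}

/-- A 2-subgroup of `K` lies in a Sylow subgroup, as elements. -/
theorem Intr.exists_sylow_mem (hK : Intr t K) {W : Subgroup G} (hW : IsPGroup 2 W) (hWK : W ≤ K) :
    ∃ Q : Sylow 2 ↥K, ∀ (x : G) (hx : x ∈ W), (⟨x, hWK hx⟩ : ↥K) ∈ (Q : Subgroup K) := by
  obtain ⟨Q, hQ⟩ := hK.sylow_exists hW hWK
  exact ⟨Q, fun x hx => hQ (show (⟨x, hWK hx⟩ : ↥K) ∈ W.subgroupOf K from hx)⟩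

theorem Intr.two_sq (hK : Intr t K) {x : G} (hx : x * x = t) : Two x :=
  ⟨2, by rw [show (2 : ℕ) ^ 2 = 2 + 2 from rfl, pow_add, pow_two, hx, hK.mul_self]⟩

/-- The 2-subgroups centralising an element of order four are cyclic. -/
theorem Intr.cyclic_cent (hK : Intr t K) {σ : G} (hσ : σ ∈ K) (hσt : σ * σ = t) {T : Subgroup G}
    (hTK : T ≤ K) (hT : IsPGroup 2 ↥T) (hTσ : ∀ g ∈ T, g * σ = σ * g) : IsCyclic ↥T := by
  haveI : IsCyclic ↥(T.subgroupOf K) :=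
    hK.uperf.isCyclic_of_centralises_root (c := (⟨σ, hσ⟩ : ↥K)) (Subtype.ext hσt)
      (hT.comap_of_injective K.subtype K.subtype_injective)
      (fun g hg => mem_centralizer_singleton_iff.mpr (Subtype.ext (hTσ g hg)))
  exact isCyclic_of_surjective (subgroupOfEquivOfLe hTK).toMonoidHom
    (subgroupOfEquivOfLe hTK).surjective

/-- A 2-element inverting an element of order four squares to the involution. -/
theorem Intr.sq_of_inverts (hK : Intr t K) {σ η : G} (hσ : σ ∈ K) (hσt : σ * σ = t) (hη : η ∈ K)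
    (h2 : Two η) (hinv : η * σ * η⁻¹ = σ⁻¹) : η * η = t := by
  haveI : Fact (Nat.Prime 2) := ⟨Nat.prime_two⟩
  have H := hK.uperf
  have hW : IsPGroup 2 ↥(zpowers σ ⊔ zpowers η) :=
    (hK.two_sq hσt).zpowers.to_sup_of_normal_left' h2.zpowers (zpowers_le.mpr (by
      rw [H51.mem_normalizer_iff_map_conj_eq, MonoidHom.map_zpowers]
      show zpowers (η * σ * η⁻¹) = zpowers σ
      rw [hinv, zpowers_inv]))
  have hWK : zpowers σ ⊔ zpowers η ≤ K := sup_le (zpowers_le.mpr hσ) (zpowers_le.mpr hη)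
  obtain ⟨Q, hQ⟩ := hK.exists_sylow_mem hW hWK
  obtain ⟨-, r, hS⟩ := H.exists_shape Q
  have hσQ := hQ σ (le_sup_left (α := Subgroup G) (mem_zpowers σ))
  have hηQ := hQ η (le_sup_right (α := Subgroup G) (mem_zpowers η))
  by_cases hηr : (⟨η, hη⟩ : ↥K) ∈ zpowers r
  · by_cases hσr : (⟨σ, hσ⟩ : ↥K) ∈ zpowers r
    · exfalso
      have e : η * σ = σ * η := congrArg Subtype.val (hS.comm hηr hσr)
      rw [e, mul_inv_cancel_right] at hinv
      refine H.ne_one (Subtype.ext ?_)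
      show t = 1
      rw [← hσt]; nth_rw 1 [hinv]; exact inv_mul_cancel σ
    · have e : σ * η * σ⁻¹ = η⁻¹ := congrArg Subtype.val (hS.inv_conj hσQ hσr hηr)
      calc η * η = (η * σ * η⁻¹)⁻¹ * (η * (σ * η * σ⁻¹) * σ) := by
            group
        _ = t := by rw [e, hinv, mul_inv_cancel, one_mul, inv_inv, hσt]
  · exact congrArg Subtype.val (hS.outside _ hηQ hηr).1

/-- The 2-elements centralised by `z` are `1` and `t`. -/
theorem Intr.two_cent (hK : Intr t K) {z : G} (hno : ∀ y ∈ K, y * y = t → y * z ≠ z * y) {y : G}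
    (hy : y ∈ K) (hyz : y * z = z * y) (h2 : Two y) : y = 1 ∨ y = t := by
  obtain ⟨k, hk⟩ := h2
  induction k generalizing y with
  | zero => exact Or.inl (by simpa using hk)
  | succ k ih =>
    rcases ih (mul_mem hy hy) (by rw [mul_assoc, hyz, ← mul_assoc, hyz, mul_assoc])
      (by rw [← pow_two, ← pow_mul, ← pow_succ']; exact hk) with h | h
    · exact hK.sq_one hy h
    · exact absurd hyz (hno y hy h)

theorem Intr.cyclic_cent_inv (hK : Intr t K) {z : G} (hno : ∀ y ∈ K, y * y = t → y * z ≠ z * y)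
    {T : Subgroup G} (hT : T ≤ K ⊓ C z) (h2 : IsPGroup 2 ↥T) : IsCyclic ↥T := by
  refine Subgroup.isCyclic_of_le (H' := zpowers t) fun g hg => ?_
  rcases hK.two_cent hno (mem_inf.mp (hT hg)).1 (mem_C.mp (mem_inf.mp (hT hg)).2)
    (Two.of_mem h2 hg) with h | h <;> rw [h]
  exacts [one_mem _, mem_zpowers t]

/-- A negated element fixed by `d`. -/
theorem exists_fixed_negated {z d : G} (hK : Intr t K) (hz : z * z = 1)
    (htz : t * z = z * t) (hzK : cj z K = K) (hno : ∀ y ∈ K, y * y = t → y * z ≠ z * y)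
    {D : Subgroup G} (hD : D ≤ C z ⊓ C t ⊓ normalizer (K : Set G)) (hd : d * d = 1)
    (hd2 : d ∈ ⁅⁅D, D⁆, ⁅D, D⁆⁆) :
    ∃ σ ∈ K, σ * σ = t ∧ z * σ * z⁻¹ = σ * t ∧ σ * d = d * σ := by
  haveI : Fact (Nat.Prime 2) := ⟨Nat.prime_two⟩
  have htC : ∀ k ∈ K, k * t = t * k := fun k hk => mem_C.mp (hK.le hk)
  have hzW : zpowers z ≤ C t := zpowers_le.mpr (mem_C.mpr htz.symm)
  obtain ⟨S, hS, hzS, -, hcomp⟩ := exists_sylow_C (a := t) (Two.of_sq hz).zpowers hzW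
  obtain ⟨Q, hQ⟩ := hcomp K hK
  have hconj : ∀ k ∈ K, z * k * z⁻¹ ∈ K := fun k hk => hzK ▸ conj_mem_cj hk
  let τ : ↥K → ↥K := fun k => ⟨z * k * z⁻¹, hconj k k.2⟩
  have hne : ∃ q ∈ (Q : Subgroup K), τ q ≠ q := by
    obtain ⟨-, r, hSh⟩ := hK.uperf.exists_shape Q
    obtain ⟨v, hv, hvt⟩ := exists_sq_in_zpowers hK.uperf hSh.big (two_pow_orderOf hSh.mem)
    refine ⟨v, zpowers_le.mpr hSh.mem hv, fun e => hno v v.2 (congrArg Subtype.val hvt) ?_⟩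
    exact (mul_inv_eq_iff_eq_mul.mp (congrArg Subtype.val e)).symm
  obtain ⟨s0, -, hs0, hτs0⟩ := hK.uperf.negated Q τ (fun q hq => (hQ _).mpr
      (mul_mem (mul_mem (hzS (mem_zpowers z)) ((hQ q).mp hq)) (inv_mem (hzS (mem_zpowers z)))))
    (fun a _ b _ => Subtype.ext (by simp [τ, mul_assoc]))
    (fun q _ => Subtype.ext (by
      show z * (z * q * z⁻¹) * z⁻¹ = q
      rw [inv_eq_of_mul_eq_one_right hz, ← mul_assoc, ← mul_assoc, hz, one_mul, mul_assoc, hz, mul_one]))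
    hne
  set w : G := (s0 : G) with hw
  have hwK : w ∈ K := s0.2
  have hwz : z * w * z⁻¹ = w * t := congrArg Subtype.val hτs0
  -- the centraliser of `z`
  set U : Subgroup G := K ⊓ C z
  have hcyc : ∀ T : Subgroup G, T ≤ U → IsPGroup 2 ↥T → IsCyclic ↥T := fun T hT h2 =>
    hK.cyclic_cent_inv hno hT h2
  have hDK : D ≤ normalizer (K : Set G) := hD.trans inf_le_right
  have hDz : ∀ p ∈ D, p * z = z * p := fun p hp => mem_C.mp (hD hp).1.1
  have hDt : ∀ p ∈ D, p * t = t * p := fun p hp => mem_C.mp (hD hp).1.2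
  have hDconj : ∀ p ∈ D, ∀ k ∈ K, p * k * p⁻¹ ∈ K := fun p hp k hk =>
    (mem_normalizer_iff.mp (hDK hp) k).mp hk
  have hUD : ∀ p ∈ D, ∀ u ∈ U, p * u * p⁻¹ ∈ U := fun p hp u hu => by
    refine mem_inf.mpr ⟨hDconj p hp u (mem_inf.mp hu).1, mul_mem (mul_mem (mem_C.mpr (hDz p hp))
      (mem_inf.mp hu).2) (inv_mem (mem_C.mpr (hDz p hp)))⟩
  have hwU : ∀ p ∈ D, w⁻¹ * (p * w * p⁻¹) ∈ U := fun p hp => by
    refine mem_inf.mpr ⟨mul_mem (inv_mem hwK) (hDconj p hp w hwK), mem_C.mpr ?_⟩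
    refine (mul_inv_eq_iff_eq_mul.mp ?_).symm
    calc z * (w⁻¹ * (p * w * p⁻¹)) * z⁻¹
        = (z * w * z⁻¹)⁻¹ * ((z * p) * w * (z * p)⁻¹) := by group
      _ = (w * t)⁻¹ * ((p * z) * w * (p * z)⁻¹) := by rw [hwz, hDz p hp]
      _ = (w * t)⁻¹ * (p * (z * w * z⁻¹) * p⁻¹) := by group
      _ = (w * t)⁻¹ * (p * w * (t * p⁻¹)) := by rw [hwz]; group
      _ = (w * t)⁻¹ * (p * w * p⁻¹ * t) := by
        rw [((show Commute p t from hDt p hp).inv_left.eq).symm]; group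
      _ = t⁻¹ * (w⁻¹ * (p * w * p⁻¹) * t) := by group
      _ = w⁻¹ * (p * w * p⁻¹) := by
        rw [htC _ (mul_mem (inv_mem hwK) (hDconj p hp w hwK))]; group
  have hdD : d ∈ D := commutator_le_self D (commutator_le_self _ hd2)
  set r := w⁻¹ * (d * w * d⁻¹) with hr
  have hrodd : Odd (orderOf r) := crossed_odd_conj hDK inf_le_left hcyc hUD hwK hwU hd2
  have hdinv : d⁻¹ = d := inv_eq_of_mul_eq_one_right hd
  obtain ⟨k, hk⟩ := exists_fixed_mul (MulAut.conj d).toMonoidHom (x := w) hrodd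
    (by show d * w * d⁻¹ = w * r; rw [hr]; group)
    (by
      show d * r * d⁻¹ = r⁻¹
      calc d * r * d⁻¹ = (d * w * d⁻¹)⁻¹ * ((d * d) * w * (d * d)⁻¹) := by rw [hr]; group
        _ = r⁻¹ := by rw [hd, hr]; group)
  have hr_U : r ^ k ∈ U := pow_mem (hwU d hdD) k
  set σ₁ := w * r ^ k with hσ₁
  have hσ₁K : σ₁ ∈ K := mul_mem hwK (mem_inf.mp hr_U).1
  have hσ₁z : z * σ₁ * z⁻¹ = σ₁ * t := by
    calc z * σ₁ * z⁻¹ = (z * w * z⁻¹) * (z * r ^ k * z⁻¹) := by rw [hσ₁]; group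
      _ = w * t * r ^ k := by
        rw [hwz, ← mem_C.mp (mem_inf.mp hr_U).2, mul_inv_cancel_right]
      _ = σ₁ * t := by rw [hσ₁, mul_assoc, ← htC _ (mem_inf.mp hr_U).1, ← mul_assoc]
  have hσ₁d : Commute σ₁ d := (mul_inv_eq_iff_eq_mul.mp hk).symm
  obtain ⟨m, hm, h2⟩ := exists_two_pow σ₁
  have hσz : z * σ₁ ^ m * z⁻¹ = σ₁ ^ m * t := by
    rw [show z * σ₁ ^ m * z⁻¹ = (z * σ₁ * z⁻¹) ^ m from map_pow (MulAut.conj z) σ₁ m, hσ₁z,
      (show Commute σ₁ t from htC σ₁ hσ₁K).mul_pow, pow_odd_of_sq hK.mul_self hm]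
  refine ⟨σ₁ ^ m, pow_mem hσ₁K m, ?_, hσz, (hσ₁d.pow_left m).eq⟩
  set σ := σ₁ ^ m
  have hσK : σ ∈ K := pow_mem hσ₁K m
  have hsqz : σ * σ * z = z * (σ * σ) := by
    have e : z * (σ * σ) * z⁻¹ = σ * σ := by
      calc z * (σ * σ) * z⁻¹ = (z * σ * z⁻¹) * (z * σ * z⁻¹) := by group
        _ = σ * (t * σ) * t := by rw [hσz]; group
        _ = σ * σ := by rw [← htC σ hσK]; simp [mul_assoc, hK.mul_self]
    exact (mul_inv_eq_iff_eq_mul.mp e).symm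
  rcases hK.two_cent hno (mul_mem hσK hσK) hsqz (by rw [← pow_two]; exact h2.pow 2) with h | h
  · exfalso
    have hσ1 : σ * z = z * σ := by
      rcases hK.sq_one hσK h with h' | h' <;> rw [h']
      · simp
      · exact htz
    rw [← hσ1, mul_inv_cancel_right] at hσz
    exact ne_one_of_two hK.ord (left_eq_mul.mp hσz)
  · exact h

/-- A quaternion pair fixed by an involution of the fourth derived subgroup. -/
theorem exists_fixed_pair {G : Type*} [Group G] [Finite G] {z t d : G} {K : Subgroup G}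
    (hK : Intr t K) (_hzt : z ≠ t) (hz : z * z = 1) (htz : t * z = z * t) (hzK : cj z K = K)
    (hno : ∀ y ∈ K, y * y = t → y * z ≠ z * y) {D : Subgroup G}
    (hD : D ≤ C z ⊓ C t ⊓ normalizer (K : Set G)) (hd : d * d = 1)
    (hdD : d ∈ ⁅⁅⁅⁅D, D⁆, ⁅D, D⁆⁆, ⁅⁅D, D⁆, ⁅D, D⁆⁆⁆, ⁅⁅⁅D, D⁆, ⁅D, D⁆⁆, ⁅⁅D, D⁆, ⁅D, D⁆⁆⁆⁆) :
    ∃ σ ∈ K, ∃ η ∈ K, σ * σ = t ∧ η * η = t ∧ η * σ * η⁻¹ = σ⁻¹ ∧ z * σ * z⁻¹ = σ * t ∧
      σ * d = d * σ ∧ η * d = d * η := by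
  haveI : Fact (Nat.Prime 2) := ⟨Nat.prime_two⟩
  set D2 := ⁅⁅D, D⁆, ⁅D, D⁆⁆ with hD2
  have hd2 : d ∈ D2 := commutator_le_self _ (commutator_le_self _ hdD)
  obtain ⟨σ, hσK, hσt, hσz, hσd⟩ := exists_fixed_negated hK hz htz hzK hno hD hd hd2
  have htC : ∀ k ∈ K, k * t = t * k := fun k hk => mem_C.mp (hK.le hk)
  -- the odd part of the centraliser of `z`
  set U : Subgroup G := K ⊓ C z
  have hcyc : ∀ T : Subgroup G, T ≤ U → IsPGroup 2 ↥T → IsCyclic ↥T := fun T hT h2 =>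
    hK.cyclic_cent_inv hno hT h2
  obtain ⟨O, hO⟩ := exists_odd_part U hcyc
  have hOK : O ≤ K := fun x hx => (mem_inf.mp ((hO x).mp hx).1).1
  have hDK : D ≤ normalizer (K : Set G) := hD.trans inf_le_right
  have hDz : D ≤ C z := hD.trans (inf_le_left.trans inf_le_left)
  have hUD : ∀ p ∈ D, ∀ u ∈ U, p * u * p⁻¹ ∈ U := fun p hp u hu =>
    mem_inf.mpr ⟨(mem_normalizer_iff.mp (hDK hp) u).mp (mem_inf.mp hu).1,
      mul_mem (mul_mem (hDz hp) (mem_inf.mp hu).2) (inv_mem (hDz hp))⟩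
  have hOD : D ≤ normalizer (O : Set G) := by
    intro p hp
    have key : ∀ p ∈ D, ∀ x ∈ O, p * x * p⁻¹ ∈ O := fun p hp x hx =>
      (hO _).mpr ⟨hUD p hp x ((hO x).mp hx).1, by
        rw [show orderOf (p * x * p⁻¹) = orderOf x from
          orderOf_injective (MulAut.conj p).toMonoidHom (MulAut.conj p).injective x]
        exact ((hO x).mp hx).2⟩
    refine mem_normalizer_iff.mpr fun x => ⟨key p hp x, fun h => ?_⟩
    have := key p⁻¹ (inv_mem hp) _ h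
    simpa [mul_assoc] using this
  have hwU : ∀ p ∈ D, σ⁻¹ * (p * σ * p⁻¹) ∈ U := fun p hp => by
    have hpσ := (mem_normalizer_iff.mp (hDK hp) σ).mp hσK
    refine mem_inf.mpr ⟨mul_mem (inv_mem hσK) hpσ, mem_C.mpr ?_⟩
    refine (mul_inv_eq_iff_eq_mul.mp ?_).symm
    have hpt : p⁻¹ * t = t * p⁻¹ :=
      (show Commute p t from mem_C.mp (hD hp).1.2).inv_left.eq
    calc z * (σ⁻¹ * (p * σ * p⁻¹)) * z⁻¹
        = (z * σ * z⁻¹)⁻¹ * ((z * p) * σ * (z * p)⁻¹) := by group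
      _ = (σ * t)⁻¹ * ((p * z) * σ * (p * z)⁻¹) := by rw [hσz, mem_C.mp (hDz hp)]
      _ = (σ * t)⁻¹ * (p * (z * σ * z⁻¹) * p⁻¹) := by group
      _ = (σ * t)⁻¹ * (p * σ * (t * p⁻¹)) := by rw [hσz]; group
      _ = t⁻¹ * (σ⁻¹ * (p * σ * p⁻¹) * t) := by rw [← hpt]; group
      _ = σ⁻¹ * (p * σ * p⁻¹) := by rw [htC _ (mul_mem (inv_mem hσK) hpσ)]; group
  -- the stabiliser of `σ`
  set E : Subgroup G := normalizer (O : Set G) ⊓ normalizer (K : Set G) ⊓ C σ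
  have hcover : ∀ p ∈ D2, ∃ o ∈ O, o * p ∈ E := by
    intro p hp
    have hpD : p ∈ D := commutator_le_self D (commutator_le_self _ hp)
    have hodd : Odd (orderOf (σ⁻¹ * (p * σ * p⁻¹))) :=
      crossed_odd_conj hDK inf_le_left hcyc hUD hσK hwU hp
    set u := σ⁻¹ * (p * σ * p⁻¹) with hu
    have huO : u ∈ O := (hO u).mpr ⟨hwU p hpD, hodd⟩
    have hpt : p * t * p⁻¹ = t := mul_inv_eq_iff_eq_mul.mpr (mem_C.mp (hD hpD).1.2)
    have husq : σ * u * (σ * u) = t := by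
      calc σ * u * (σ * u) = p * (σ * σ) * p⁻¹ := by rw [hu]; group
        _ = t := by rw [hσt, hpt]
    have hinv : σ⁻¹ * u * σ = u⁻¹ := by
      have e1 : u * σ * u = σ⁻¹ * t := by rw [← husq]; group
      have e2 : σ⁻¹ * t = σ := by rw [← hσt]; group
      rw [e2] at e1
      calc σ⁻¹ * u * σ = σ⁻¹ * (u * σ * u) * u⁻¹ := by group
        _ = u⁻¹ := by rw [e1]; group
    obtain ⟨k, hk⟩ := exists_half hodd
    refine ⟨u ^ k, pow_mem huO k, mem_inf.mpr ⟨mem_inf.mpr ⟨mul_mem (le_normalizer (pow_mem huO k))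
      (hOD hpD), mul_mem (le_normalizer (hOK (pow_mem huO k))) (hDK hpD)⟩, mem_C.mpr ?_⟩⟩
    refine mul_inv_eq_iff_eq_mul.mp ?_
    have hinvk : σ⁻¹ * u ^ k * σ = (u ^ k)⁻¹ := by
      have := map_pow (MulAut.conj σ⁻¹) u k
      simp only [MulAut.conj_apply, inv_inv] at this
      rw [this, hinv, inv_pow]
    calc u ^ k * p * σ * (u ^ k * p)⁻¹ = u ^ k * (σ * u) * (u ^ k)⁻¹ := by rw [hu]; group
      _ = u ^ k * σ * (u ^ k * u ^ k) * (u ^ k)⁻¹ := by rw [hk]; group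
      _ = σ * (σ⁻¹ * u ^ k * σ) * u ^ k := by group
      _ = σ := by rw [hinvk]; group
  -- decompose `d`
  obtain ⟨o, ho, p, hpE, rfl⟩ : ∃ o ∈ O, ∃ p ∈ ⁅⁅E, E⁆, ⁅E, E⁆⁆, o * p = d := by
    set N := normalizer (O : Set G)
    have hD2N : D2 ≤ N := ((commutator_le_self _).trans (commutator_le_self D)).trans hOD
    have hEN : E ≤ N := inf_le_left.trans inf_le_left
    let f : ↥N →* ↥N ⧸ O.subgroupOf N := QuotientGroup.mk' _
    have hle : (D2.subgroupOf N).map f ≤ (E.subgroupOf N).map f := by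
      rintro _ ⟨⟨p, hpN⟩, hp, rfl⟩
      obtain ⟨o, ho, hop⟩ := hcover p hp
      refine ⟨⟨o * p, hEN hop⟩, hop, ?_⟩
      show f (⟨o, le_normalizer ho⟩ * ⟨p, hpN⟩) = f ⟨p, hpN⟩
      rw [map_mul, show f ⟨o, le_normalizer ho⟩ = 1 from (QuotientGroup.eq_one_iff _).mpr ho, one_mul]
    have hsub : ∀ A B : Subgroup G, A ≤ N → B ≤ N →
        ⁅A.subgroupOf N, B.subgroupOf N⁆ = ⁅A, B⁆.subgroupOf N := fun A B hA hB => by
      refine map_injective N.subtype_injective ?_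
      rw [map_commutator, map_subgroupOf_eq_of_le hA, map_subgroupOf_eq_of_le hB,
        map_subgroupOf_eq_of_le ((commutator_mono hA hB).trans (commutator_le_self N))]
    have h4 : (⁅⁅D2, D2⁆, ⁅D2, D2⁆⁆.subgroupOf N).map f ≤ (⁅⁅E, E⁆, ⁅E, E⁆⁆.subgroupOf N).map f := by
      rw [← hsub _ _ ((commutator_le_self _).trans hD2N) ((commutator_le_self _).trans hD2N),
        ← hsub _ _ hD2N hD2N,
        ← hsub _ _ ((commutator_le_self _).trans hEN) ((commutator_le_self _).trans hEN),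
        ← hsub _ _ hEN hEN]
      simp only [map_commutator]
      exact commutator_mono (commutator_mono hle hle) (commutator_mono hle hle)
    have hdN : d ∈ N := hD2N hd2
    obtain ⟨⟨p, hpN⟩, hp, hfp⟩ := h4 (mem_map_of_mem f (show (⟨d, hdN⟩ : ↥N) ∈ ⁅⁅D2, D2⁆, ⁅D2, D2⁆⁆.subgroupOf N from hdD))
    refine ⟨d * p⁻¹, ?_, p, hp, inv_mul_cancel_right d p⟩
    have := (QuotientGroup.eq_iff_div_mem.mp hfp.symm)
    simpa [div_eq_mul_inv, mem_subgroupOf] using this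
  have hpEE : p ∈ E := commutator_le_self E (commutator_le_self _ hpE)
  have hpσ : p * σ = σ * p := mem_C.mp (mem_inf.mp hpEE).2
  have hoσ : o * σ = σ * o := by
    have h1 : o * σ * p = σ * o * p := by
      calc o * σ * p = o * (p * σ) := by rw [hpσ]; group
        _ = σ * (o * p) := by rw [← mul_assoc]; exact hσd.symm
        _ = σ * o * p := by group
    exact mul_right_cancel h1
  -- the centraliser of `σ`
  set U' : Subgroup G := K ⊓ C σ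
  have hcyc' : ∀ T : Subgroup G, T ≤ U' → IsPGroup 2 ↥T → IsCyclic ↥T := fun T hT hT2 =>
    hK.cyclic_cent hσK hσt (hT.trans inf_le_left) hT2 fun g hg => mem_C.mp (mem_inf.mp (hT hg)).2
  obtain ⟨O', hO'⟩ := exists_odd_part U' hcyc'
  obtain ⟨Q, hQ⟩ := hK.exists_sylow_mem (hK.two_sq hσt).zpowers (zpowers_le.mpr hσK)
  obtain ⟨η₀', -, hη₀t', hη₀σ'⟩ := hK.uperf.exists_inverted Q (hQ σ (mem_zpowers σ)) (Subtype.ext hσt)
  set η₀ : G := (η₀' : G)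
  have hη₀K : η₀ ∈ K := η₀'.2
  have hη₀σ : η₀ * σ * η₀⁻¹ = σ⁻¹ := congrArg Subtype.val hη₀σ'
  have hEconj : ∀ q ∈ E, ∀ k ∈ K, q * k * q⁻¹ ∈ K := fun q hq k hk =>
    (mem_normalizer_iff.mp (mem_inf.mp (mem_inf.mp hq).1).2 k).mp hk
  have hU'E : ∀ q ∈ E, ∀ u ∈ U', q * u * q⁻¹ ∈ U' := fun q hq u hu =>
    mem_inf.mpr ⟨hEconj q hq u (mem_inf.mp hu).1,
      mul_mem (mul_mem (mem_inf.mp hq).2 (mem_inf.mp hu).2) (inv_mem (mem_inf.mp hq).2)⟩
  have hw' : ∀ q ∈ E, η₀⁻¹ * (q * η₀ * q⁻¹) ∈ U' := fun q hq => by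
    refine mem_inf.mpr ⟨mul_mem (inv_mem hη₀K) (hEconj q hq η₀ hη₀K), mem_C.mpr ?_⟩
    refine mul_inv_eq_iff_eq_mul.mp ?_
    have hqσ : q * σ = σ * q := mem_C.mp (mem_inf.mp hq).2
    have hq2 : q⁻¹ * σ * q = σ := by rw [mul_assoc, ← hqσ, inv_mul_cancel_left]
    calc η₀⁻¹ * (q * η₀ * q⁻¹) * σ * (η₀⁻¹ * (q * η₀ * q⁻¹))⁻¹
        = η₀⁻¹ * (q * (η₀ * (q⁻¹ * σ * q) * η₀⁻¹) * q⁻¹) * η₀ := by group
      _ = η₀⁻¹ * (q * σ * q⁻¹)⁻¹ * η₀ := by rw [hq2, hη₀σ]; group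
      _ = η₀⁻¹ * σ⁻¹ * η₀ := by rw [hqσ, mul_inv_cancel_right]
      _ = σ := by rw [← hη₀σ]; group
  have hv : η₀⁻¹ * (p * η₀ * p⁻¹) ∈ O' := (hO' _).mpr ⟨hw' p hpEE,
    crossed_odd_conj (inf_le_left.trans inf_le_right) inf_le_left hcyc' hU'E hη₀K hw' hpE⟩
  have hoO' : o ∈ O' := (hO' o).mpr ⟨mem_inf.mpr ⟨hOK ho, mem_C.mpr hoσ⟩, ((hO o).mp ho).2⟩
  have hoO'' : η₀⁻¹ * o * η₀ ∈ O' := by
    refine (hO' _).mpr ⟨mem_inf.mpr ⟨mul_mem (mul_mem (inv_mem hη₀K) (hOK ho)) hη₀K, mem_C.mpr ?_⟩, ?_⟩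
    · refine mul_inv_eq_iff_eq_mul.mp ?_
      calc η₀⁻¹ * o * η₀ * σ * (η₀⁻¹ * o * η₀)⁻¹
          = η₀⁻¹ * (o * (η₀ * σ * η₀⁻¹) * o⁻¹) * η₀ := by group
        _ = η₀⁻¹ * (o * σ * o⁻¹)⁻¹ * η₀ := by rw [hη₀σ]; group
        _ = η₀⁻¹ * σ⁻¹ * η₀ := by rw [hoσ, mul_inv_cancel_right]
        _ = σ := by rw [← hη₀σ]; group
    · have e : orderOf ((MulAut.conj η₀⁻¹).toMonoidHom o) = orderOf o :=
        orderOf_injective _ (MulAut.conj η₀⁻¹).injective o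
      simp only [MulEquiv.coe_toMonoidHom, MulAut.conj_apply, inv_inv] at e
      rw [e]; exact ((hO o).mp ho).2
  set r := η₀⁻¹ * (o * p * η₀ * (o * p)⁻¹) with hr
  have hrO' : r ∈ O' := by
    rw [show r = η₀⁻¹ * o * η₀ * (η₀⁻¹ * (p * η₀ * p⁻¹)) * o⁻¹ by rw [hr]; group]
    exact mul_mem (mul_mem hoO'' hv) (inv_mem hoO')
  obtain ⟨k, hk⟩ := exists_fixed_mul (MulAut.conj (o * p)).toMonoidHom (x := η₀) ((hO' r).mp hrO').2
    (by show o * p * η₀ * (o * p)⁻¹ = η₀ * r; rw [hr]; group)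
    (by
      show o * p * r * (o * p)⁻¹ = r⁻¹
      calc o * p * r * (o * p)⁻¹
          = (o * p * η₀ * (o * p)⁻¹)⁻¹ * ((o * p * (o * p)) * η₀ * (o * p * (o * p))⁻¹) := by
            rw [hr]; group
        _ = r⁻¹ := by rw [hd, hr]; group)
  have hrk : r ^ k ∈ U' := ((hO' _).mp (pow_mem hrO' k)).1
  have hη₁K : η₀ * r ^ k ∈ K := mul_mem hη₀K (mem_inf.mp hrk).1
  have hη₁σ : η₀ * r ^ k * σ * (η₀ * r ^ k)⁻¹ = σ⁻¹ := by
    calc η₀ * r ^ k * σ * (η₀ * r ^ k)⁻¹ = η₀ * (r ^ k * σ * (r ^ k)⁻¹) * η₀⁻¹ := by group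
      _ = σ⁻¹ := by rw [mem_C.mp (mem_inf.mp hrk).2, mul_inv_cancel_right, hη₀σ]
  obtain ⟨m, hm, h2⟩ := exists_two_pow (η₀ * r ^ k)
  have hη₁d : Commute (η₀ * r ^ k) (o * p) := (mul_inv_eq_iff_eq_mul.mp hk).symm
  exact ⟨σ, hσK, (η₀ * r ^ k) ^ m, pow_mem hη₁K m, hσt,
    hK.sq_of_inverts hσK hσt (pow_mem hη₁K m) h2 (conj_pow_odd hη₁σ hm), conj_pow_odd hη₁σ hm,
    hσz, hσd, (hη₁d.pow_left m).eq⟩

end Cfsg.Agent.H33.IntrinsicSL2
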