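import Cfsg.Agent.H33.IntrinsicSL2.Pair

/-!
Part (ii): the product of a pair of components is found in a high derived subgroup of a group fixing a
component of the second centraliser.
-/

set_option autoImplicit false

namespace Cfsg.Agent.H33.IntrinsicSL2

open Subgroup
open scoped commutatorElement

variable {G : Type*} [Group G] [Finite G]

namespace KernelAux

omit [Finite G] in
theorem le_commutator_barS {a : G} {H : Subgroup G} {M : Subgroup (Bar a)} (hM : ⁅M, M⁆ = M)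
    (h : M ≤ barS a H) : M ≤ barS a ⁅H, H⁆ := by
  rw [← hM]
  refine (commutator_mono h h).trans ?_
  rw [barS, ← map_commutator]
  refine map_mono (commutator_le.mpr fun u hu v hv => ?_)
  show ⁅(u : G), (v : G)⁆ ∈ ⁅H, H⁆
  exact commutator_mem_commutator hu hv

omit [Finite G] in
theorem mem_cj_iff_comm {g h : G} (hgh : g * h = h * g) (K : Subgroup G) (hK : cj g K = K) :
    cj g (cj h K) = cj h K := by
  rw [cj_cj, hgh, ← cj_cj, hK]

theorem pow_mem_cent {a σ e : G} {K : Subgroup G} (hK : Intr a K) (hσ : σ ∈ K) (he : e ∈ cent a K)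
    (n : ℕ) : (σ ^ n)⁻¹ * (σ * e) ^ n ∈ cent a K := by
  induction n with
  | zero => simp
  | succ n ih =>
    have h1 := conj_mem_cent hK.le (inv_mem (hK.le hσ)) ih
    rw [cj_eq_iff.mpr (le_normalizer (inv_mem hσ)), inv_inv] at h1
    convert mul_mem h1 he using 1
    rw [pow_succ, pow_succ]
    group

omit [Finite G] in
theorem hno_conj {z t : G} {K : Subgroup G} {o : G} (hoz : o * z = z * o) (hot : o * t = t * o)
    (hno : ∀ y ∈ K, y * y = t → y * z ≠ z * y) :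
    ∀ y ∈ cj o K, y * y = t → y * z ≠ z * y := by
  intro y hy hy2 hyz
  have h1 : o⁻¹ * y * o ∈ K := mem_cj.mp hy
  refine hno _ h1 ?_ ?_
  · calc _ = o⁻¹ * (y * y) * o := by group
      _ = o⁻¹ * (o * t) := by rw [hy2, mul_assoc, hot]
      _ = t := inv_mul_cancel_left o t
  · have e : Commute o⁻¹ z := Commute.inv_left hoz
    have e2 : Commute (o⁻¹ * y * o) z := (e.mul_left hyz).mul_left hoz
    exact e2.eq

/-- A conjugate of an involution inside its coset by an element of odd order. -/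
theorem exists_conj_eq {u d : G} (hu : u * u = 1) (hd : d * d = 1) (hr : Odd (orderOf (u * d))) :
    ∃ o ∈ zpowers (u * d), o * u * o⁻¹ = d := by
  obtain ⟨k, hk⟩ := exists_half hr
  refine ⟨((u * d) ^ k)⁻¹, inv_mem (pow_mem (mem_zpowers _) k), ?_⟩
  have hu' : u⁻¹ = u := inv_eq_of_mul_eq_one_right hu
  have hd' : d⁻¹ = d := inv_eq_of_mul_eq_one_right hd
  have h1 : u * (u * d) * u⁻¹ = (u * d)⁻¹ := by
    rw [mul_inv_rev, hu', hd', ← mul_assoc, hu, one_mul]
  have h2 : u * (u * d) ^ k * u⁻¹ = ((u * d) ^ k)⁻¹ := by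
    rw [← inv_pow, ← h1]
    exact map_pow (MulAut.conj u) (u * d) k
  rw [inv_inv]
  calc ((u * d) ^ k)⁻¹ * u * (u * d) ^ k = u * (u * d) ^ k * u⁻¹ * u * (u * d) ^ k := by rw [h2]
    _ = u * ((u * d) ^ k * (u * d) ^ k) := by group
    _ = d := by rw [hk, ← mul_assoc, hu, one_mul]

/-- An element of order four of `K` negated by `z`, inside a given 2-subgroup. -/
theorem exists_negated {z t : G} {K : Subgroup G} (hK : Intr t K) (hz : z * z = 1) (hzK : cj z K = K)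
    (hno : ∀ y ∈ K, y * y = t → y * z ≠ z * y) {W : Subgroup G} (hW : IsPGroup 2 W) (hWC : W ≤ C t)
    (hzW : z ∈ W) :
    ∃ S : Subgroup G, IsPGroup 2 S ∧ W ≤ S ∧ S ≤ C t ∧
      ∃ σ ∈ K, σ ∈ S ∧ σ * σ = t ∧ z * σ * z⁻¹ = σ * t := by
  haveI : Fact (Nat.Prime 2) := ⟨Nat.prime_two⟩
  obtain ⟨S, hS, hWS, hSC, hJS⟩ := exists_sylow_C hW hWC
  obtain ⟨Q, hQ⟩ := hJS K hK
  have hzS : z ∈ S := hWS hzW
  have hzk : ∀ k : ↥K, z * (k : G) * z⁻¹ ∈ K := fun k => by
    have := conj_mem_cj (g := z) k.2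
    rwa [hzK] at this
  let τ : ↥K → ↥K := fun k => ⟨z * (k : G) * z⁻¹, hzk k⟩
  obtain ⟨-, r, hr⟩ := hK.uperf.exists_shape Q
  obtain ⟨v, hv, hv2⟩ := exists_sq_in_zpowers hK.uperf hr.big (two_pow_orderOf hr.mem)
  have hvQ : v ∈ (Q : Subgroup K) := zpowers_le.mpr hr.mem hv
  obtain ⟨s, hsQ, hs2, hs⟩ := hK.uperf.negated Q τ
    (fun q hq => (hQ _).mpr (mul_mem (mul_mem hzS ((hQ q).mp hq)) (inv_mem hzS)))
    (fun a _ b _ => Subtype.ext (show z * ((a : G) * b) * z⁻¹ = z * a * z⁻¹ * (z * b * z⁻¹) by group))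
    (fun q _ => Subtype.ext (show z * (z * (q : G) * z⁻¹) * z⁻¹ = q by
      rw [inv_eq_of_mul_eq_one_right hz]
      calc z * (z * (q : G) * z) * z = z * z * (q : G) * (z * z) := by group
        _ = q := by rw [hz, one_mul, mul_one]))
    ⟨v, hvQ, fun h => hno v v.2 (congrArg Subtype.val hv2)
      (mul_inv_eq_iff_eq_mul.mp (congrArg Subtype.val h)).symm⟩
  exact ⟨S, hS, hWS, hSC, s, s.2, (hQ s).mp hsQ, congrArg Subtype.val hs2, congrArg Subtype.val hs⟩

end KernelAux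

open KernelAux

/-- Part (ii), first half: the product of the pair lies deep inside a group fixing a component. -/
theorem exists_derived_fix {z t : G} {J K : Subgroup G} (hJ : Intr z J) (hK : Intr t K) (hzt : z ≠ t)
    (hzK : cj z K = K) (htz : t * z = z * t) (htJ : cj t J ≠ J)
    (hno : ∀ y ∈ K, y * y = t → y * z ≠ z * y) {c d : G} (hc : c ∈ J) (hc2 : c * c = z)
    (hdz : d * z = z * d) (hdt : d * t = t * d) (hd : d * d = 1)
    (hdc : (c * (t * c * t⁻¹))⁻¹ * d ∈ core z) :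
    ∃ K' : Subgroup G, Intr t K' ∧ cj z K' = K' ∧ (∀ y ∈ K', y * y = t → y * z ≠ z * y) ∧
      ∃ D : Subgroup G, D ≤ C z ⊓ C t ⊓ normalizer (K' : Set G) ∧
        d ∈ ⁅⁅⁅⁅D, D⁆, ⁅D, D⁆⁆, ⁅⁅D, D⁆, ⁅D, D⁆⁆⁆, ⁅⁅⁅D, D⁆, ⁅D, D⁆⁆, ⁅⁅D, D⁆, ⁅D, D⁆⁆⁆⁆ := by
  have _ := hzt
  have htC : t ∈ C z := mem_C.mpr htz
  have hdC : d ∈ C z := mem_C.mpr hdz
  have hJ2 : Intr z (cj t J) := hJ.conj_self htC
  have ht2 : t * t = 1 := hK.mul_self
  have hcC : c ∈ C z := hJ.le hc
  set T : Bar z := bar z ⟨t, htC⟩ with hT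
  have hTT : T * T = 1 := by
    rw [hT, ← map_mul]
    exact bar_eq_one.mpr (by show t * t ∈ core z; rw [ht2]; exact one_mem _)
  let b : ↥J →* Bar z := (bar z).comp (Subgroup.inclusion hJ.le)
  have hbmem : ∀ j : ↥J, b j ∈ barS z J := fun j => bar_mem_barS j.2 _
  have hTb : ∀ j : ↥J, T * b j * T⁻¹ ∈ barS z (cj t J) := fun j => by
    rw [hT, ← map_inv]
    show bar z ⟨t, htC⟩ * bar z ⟨(j : G), hJ.le j.2⟩ * bar z ⟨t, htC⟩⁻¹ ∈ _
    rw [← map_mul, ← map_mul]
    exact bar_mem_barS (conj_mem_cj j.2) _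
  have hcomm : ∀ j k : ↥J, b j * (T * b k * T⁻¹) = T * b k * T⁻¹ * b j := fun j k =>
    hJ.bar_comm hJ2 htJ (hbmem j) (hTb k)
  let φ : ↥J →* Bar z := MonoidHom.mk' (fun j => b j * (T * b j * T⁻¹)) (fun j k => by
    simp only [map_mul]
    calc b j * b k * (T * (b j * b k) * T⁻¹) = b j * (b k * (T * b j * T⁻¹)) * (T * b k * T⁻¹) := by group
      _ = _ := by rw [hcomm k j]; group)
  have hφd : φ ⟨c, hc⟩ = bar z ⟨d, hdC⟩ := by
    have h1 : bar z ((⟨c, hcC⟩ * (⟨t, htC⟩ * ⟨c, hcC⟩ * ⟨t, htC⟩⁻¹))⁻¹ * ⟨d, hdC⟩) = 1 :=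
      bar_eq_one.mpr hdc
    rw [map_mul, map_inv, inv_mul_eq_one, map_mul, map_mul, map_mul, map_inv] at h1
    exact h1
  set M : Subgroup (Bar z) := φ.range with hMdef
  have hM : ⁅M, M⁆ = M := by
    rw [hMdef, MonoidHom.range_eq_map, ← map_commutator]
    haveI := hJ.uperf.perf
    rw [← _root_.commutator_def, Group.IsPerfect.commutator_eq_top]
  -- the group of elements inducing elements of `M`
  set Dh : Subgroup G := (M.comap (bar z)).map (C z).subtype ⊓ C t with hDhdef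
  have hDh_le : Dh ≤ C z ⊓ C t := inf_le_inf_right _ (map_subtype_le _)
  have hDh_mem : ∀ {x : G} (hx : x ∈ C z), x ∈ C t → bar z ⟨x, hx⟩ ∈ M → x ∈ Dh :=
    fun {x} hx hxt h => ⟨⟨⟨x, hx⟩, h, rfl⟩, hxt⟩
  have hDh_bar : ∀ {x : G} (h : x ∈ Dh), bar z ⟨x, (hDh_le h).1⟩ ∈ M := by
    rintro _ ⟨⟨x, hx, rfl⟩, -⟩
    exact hx
  have hlift : ∀ j : ↥J, ∃ x, ∃ hx : x ∈ C z, x ∈ C t ∧ bar z ⟨x, hx⟩ = φ j := by
    intro j
    set m : G := (j : G) * (t * j * t⁻¹) with hm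
    have hmC : m ∈ C z := mul_mem (hJ.le j.2) (mul_mem (mul_mem htC (hJ.le j.2)) (inv_mem htC))
    have hbm : bar z ⟨m, hmC⟩ = φ j := by
      show _ = b j * (T * b j * T⁻¹)
      rw [hT, ← map_inv]
      show _ = bar z ⟨(j : G), hJ.le j.2⟩ * (bar z ⟨t, htC⟩ * bar z ⟨(j : G), hJ.le j.2⟩ * bar z ⟨t, htC⟩⁻¹)
      rw [← map_mul, ← map_mul, ← map_mul]
      rfl
    have hTm : T * bar z ⟨m, hmC⟩ * T⁻¹ = bar z ⟨m, hmC⟩ := by
      rw [hbm]
      show T * (b j * (T * b j * T⁻¹)) * T⁻¹ = b j * (T * b j * T⁻¹)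
      calc T * (b j * (T * b j * T⁻¹)) * T⁻¹ = (T * b j * T⁻¹) * (T * T * b j * (T * T)⁻¹) := by group
        _ = _ := by rw [hTT, one_mul, inv_one, mul_one, ← hcomm j j]
    set r : G := m⁻¹ * (t * m * t⁻¹) with hr
    have hrcore : r ∈ core z := by
      have hrC : r ∈ C z := mul_mem (inv_mem hmC) (mul_mem (mul_mem htC hmC) (inv_mem htC))
      refine bar_eq_one (x := ⟨r, hrC⟩).mp ?_
      have : bar z ((⟨m, hmC⟩ : C z)⁻¹ * (⟨t, htC⟩ * ⟨m, hmC⟩ * ⟨t, htC⟩⁻¹)) = 1 := by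
        rw [map_mul, map_mul, map_mul, map_inv, map_inv, ← hT, hTm, inv_mul_cancel]
      exact this
    have hti : t⁻¹ = t := inv_eq_of_mul_eq_one_right ht2
    obtain ⟨k, hk⟩ := exists_fixed_mul (MulAut.conj t).toMonoidHom (x := m) (r := r) (core_odd hrcore)
      (by simp [hr]) (by
        show t * r * t⁻¹ = r⁻¹
        have aux : ∀ m : G, t * (m⁻¹ * (t * m * t⁻¹)) * t⁻¹ = (m⁻¹ * (t * m * t⁻¹))⁻¹ := fun m => by
          simp only [mul_inv_rev, hti, inv_inv, mul_assoc, ht2, mul_one]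
        exact aux m)
    have hkC : m * r ^ k ∈ C z := mul_mem hmC (pow_mem (core_le z hrcore) k)
    refine ⟨m * r ^ k, hkC, mem_C.mpr ?_, ?_⟩
    · exact (mul_inv_eq_iff_eq_mul.mp (show t * (m * r ^ k) * t⁻¹ = m * r ^ k from hk)).symm
    · rw [show (⟨m * r ^ k, hkC⟩ : C z) = ⟨m, hmC⟩ * (⟨r, core_le z hrcore⟩ : C z) ^ k from rfl,
        map_mul, map_pow, (bar_eq_one (x := ⟨r, core_le z hrcore⟩)).mpr hrcore, one_pow, mul_one, hbm]
  have hdDh : d ∈ Dh := hDh_mem hdC (mem_C.mpr hdt) (hφd ▸ ⟨_, rfl⟩)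
  -- the part fixing the orbit of `K`
  set N : Subgroup G := Dh ⊓ ⨅ y : ↥Dh, normalizer ((cj (y : G) K : Subgroup G) : Set G) with hNdef
  have hNmem : ∀ {x : G}, x ∈ N ↔ x ∈ Dh ∧ ∀ y ∈ Dh, cj x (cj y K) = cj y K := by
    intro x
    simp only [hNdef, mem_inf, mem_iInf, ← cj_eq_iff, Subtype.forall]
  have hNle : N ≤ C z := inf_le_left.trans (hDh_le.trans inf_le_left)
  have hNnorm : ∀ a ∈ Dh, ∀ x ∈ N, a * x * a⁻¹ ∈ N := by
    intro a ha x hx
    rw [hNmem] at hx ⊢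
    refine ⟨mul_mem (mul_mem ha hx.1) (inv_mem ha), fun y hy => ?_⟩
    rw [← cj_cj, ← cj_cj, cj_cj a⁻¹, hx.2 _ (mul_mem (inv_mem ha) hy), cj_cj, mul_inv_cancel_left]
  let Nb : Subgroup (Bar z) := barS z N
  haveI hLn : (Nb.comap φ).Normal := by
    refine Subgroup.Normal.mk fun j hj l => ?_
    obtain ⟨a, ha, hat, hab⟩ := hlift l
    obtain ⟨⟨x, hxC⟩, hx, hxb⟩ := (mem_comap.mp hj : φ j ∈ Nb)
    rw [mem_comap, map_mul, map_mul, map_inv, ← hab, ← hxb, ← map_inv, ← map_mul, ← map_mul]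
    exact bar_mem_barS (hNnorm a (hDh_mem ha hat (hab ▸ ⟨l, rfl⟩)) x hx) _
  let π : ↥J →* ↥(barS z J) := b.codRestrict (barS z J) hbmem
  have hπ : Function.Surjective π := by
    rintro ⟨_, ⟨x, hxC⟩, hx, rfl⟩
    exact ⟨⟨x, hx⟩, rfl⟩
  haveI := hLn.map π hπ
  have hXconj : ∀ o ∈ C z ⊓ C t, Intr t (cj o K) ∧ cj z (cj o K) = cj o K ∧
      ∀ y ∈ cj o K, y * y = t → y * z ≠ z * y := fun o ho =>
    ⟨hK.conj_self ho.2, mem_cj_iff_comm (mem_C.mp ho.1).symm K hzK,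
      hno_conj (mem_C.mp ho.1) (mem_C.mp ho.2) hno⟩
  rcases H51.quasisimple_eq_top_or_le_center_of_normal hJ.component.2 ((Nb.comap φ).map π) with htop | hcen
  · -- the kernel covers `M`
    have hMN : M ≤ Nb := by
      rintro _ ⟨j, rfl⟩
      obtain ⟨l, hl, hlj⟩ := (show π j ∈ (Nb.comap φ).map π from htop ▸ mem_top _)
      have e : b l = b j := congrArg Subtype.val hlj
      have : φ l = φ j := by show b l * (T * b l * T⁻¹) = b j * (T * b j * T⁻¹); rw [e]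
      rw [← this]
      exact hl
    have h4 := le_commutator_barS hM (le_commutator_barS hM (le_commutator_barS hM
      (le_commutator_barS hM hMN)))
    set N4 : Subgroup G := ⁅⁅⁅⁅N, N⁆, ⁅N, N⁆⁆, ⁅⁅N, N⁆, ⁅N, N⁆⁆⁆, ⁅⁅⁅N, N⁆, ⁅N, N⁆⁆, ⁅⁅N, N⁆, ⁅N, N⁆⁆⁆⁆
      with hN4
    have hN4le : N4 ≤ N := by
      have h : ∀ H : Subgroup G, ⁅H, H⁆ ≤ H := fun H => commutator_le_self H
      exact (h _).trans ((h _).trans ((h _).trans (h _)))
    obtain ⟨⟨u0, hu0C⟩, hu0, hu0b⟩ := h4 (hφd ▸ ⟨_, rfl⟩ : bar z ⟨d, hdC⟩ ∈ M)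
    have hu0sq : u0 * u0 ∈ core z := by
      refine bar_eq_one (x := (⟨u0, hu0C⟩ : C z) * ⟨u0, hu0C⟩).mp ?_
      rw [map_mul, hu0b, ← map_mul]
      exact bar_eq_one.mpr (by show d * d ∈ core z; rw [hd]; exact one_mem _)
    obtain ⟨k, hk⟩ := core_odd hu0sq
    set u := u0 ^ orderOf (u0 * u0) with hudef
    have hu2 : u * u = 1 := by rw [hudef, ← (Commute.refl u0).mul_pow, pow_orderOf_eq_one]
    have huN4 : u ∈ N4 := pow_mem hu0 _
    have huC : u ∈ C z := pow_mem hu0C _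
    have hubar : bar z ⟨u, huC⟩ = bar z ⟨d, hdC⟩ := by
      rw [show (⟨u, huC⟩ : C z) = (⟨u0, hu0C⟩ : C z) ^ orderOf (u0 * u0) from rfl, map_pow, hu0b, hk,
        pow_succ, pow_mul, pow_two, ← map_mul, bar_eq_one.mpr (by show d * d ∈ core z; rw [hd]; exact one_mem _),
        one_pow, one_mul]
    have hud : u * d ∈ core z := by
      refine bar_eq_one (x := (⟨u, huC⟩ : C z) * ⟨d, hdC⟩).mp ?_
      rw [map_mul, hubar, ← map_mul]
      exact bar_eq_one.mpr (by show d * d ∈ core z; rw [hd]; exact one_mem _)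
    obtain ⟨o, ho, hod⟩ := exists_conj_eq hu2 hd (core_odd hud)
    have hoX : o ∈ C z ⊓ C t := zpowers_le.mpr
      (mul_mem (hDh_le (inf_le_left (a := Dh) (hN4le huN4))) ⟨hdC, mem_C.mpr hdt⟩) ho
    obtain ⟨hK', hzK', hno'⟩ := hXconj o hoX
    refine ⟨cj o K, hK', hzK', hno', cj o N, ?_, ?_⟩
    · intro y hy
      rw [mem_cj] at hy
      obtain ⟨hyD, hyfix⟩ := hNmem.mp hy
      refine ⟨?_, ?_⟩
      · have := mul_mem (mul_mem hoX (hDh_le hyD)) (inv_mem hoX)
        rwa [show o * (o⁻¹ * y * o) * o⁻¹ = y by group] at this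
      · refine cj_eq_iff.mp ?_
        have e := congrArg (cj o) (hyfix 1 (one_mem _))
        rw [cj_one, cj_cj, show o * (o⁻¹ * y * o) = y * o by group, ← cj_cj] at e
        exact e
    · simp only [cj, ← map_commutator]
      exact ⟨u, huN4, hod⟩
  · -- otherwise `d` moves a conjugate of `K`
    exfalso
    have hcent : ∀ j : ↥J, φ j ∈ Nb → (j : G) ∈ cent z J := by
      intro j hj
      refine (mem_cent hJ.le).mpr ⟨hJ.le j.2, fun l hl => ?_⟩
      have h := congrArg Subtype.val (mem_center_iff.mp (hcen (mem_map_of_mem π (mem_comap.mpr hj))) (π ⟨l, hl⟩))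
      refine bar_eq_one (x := ⁅(⟨(j : G), hJ.le j.2⟩ : C z), ⟨l, hJ.le hl⟩⁆).mp ?_
      rw [map_commutatorElement, commutatorElement_eq_one_iff_mul_comm]
      exact h.symm
    have hdN : d ∉ N := fun h =>
      hJ.not_cent_of_sq hc hc2 (hcent ⟨c, hc⟩ (hφd ▸ bar_mem_barS h _))
    obtain ⟨y, hy, hyd⟩ : ∃ y ∈ Dh, cj d (cj y K) ≠ cj y K := by
      by_contra h
      push Not at h
      exact hdN (hNmem.mpr ⟨hdDh, h⟩)
    obtain ⟨hK1, hzK1, hno1⟩ := hXconj y (hDh_le hy)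
    set K1 := cj y K with hK1def
    set K2 := cj d K1 with hK2def
    have hK2 : Intr t K2 := hK1.conj_self (mem_C.mpr hdt)
    have hd' : d⁻¹ = d := inv_eq_of_mul_eq_one_right hd
    -- an element of order four of `K1` negated by `z`
    have hW : IsPGroup 2 ↥(zpowers z ⊔ zpowers d) := by
      refine (Two.of_sq hJ.mul_self).zpowers.to_sup_of_normal_left' (Two.of_sq hd).zpowers
        (zpowers_le.mpr (H51.mem_normalizer_iff_map_conj_eq.mpr ?_))
      rw [MonoidHom.map_zpowers]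
      exact congrArg zpowers (mul_inv_eq_iff_eq_mul.mpr hdz)
    obtain ⟨S, hS, hWS, -, σ, hσ, hσS, hσ2, hσz⟩ := exists_negated hK1 hJ.mul_self hzK1 hno1 hW
      (sup_le (zpowers_le.mpr (mem_C.mpr htz.symm)) (zpowers_le.mpr (mem_C.mpr hdt)))
      (mem_sup_left (mem_zpowers z))
    set σ2 := d * σ * d⁻¹ with hσ2def
    have hσ2K : σ2 ∈ K2 := conj_mem_cj hσ
    have hdS : d ∈ S := hWS (mem_sup_right (mem_zpowers d))
    have hss : σ * σ2 = σ2 * σ := hK1.comm_exact hK2 (Ne.symm hyd) hS hσ hσ2K hσS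
      (mul_mem (mul_mem hdS hσS) (inv_mem hdS))
    set f := σ * σ2 with hfdef
    have hσt : σ * t = t * σ := mem_C.mp (hK1.le hσ)
    have hσ2t : σ2 * t = t * σ2 := mem_C.mp (hK2.le hσ2K)
    have hft : f * t = t * f := (Commute.mul_left (hσt : Commute σ t) hσ2t).eq
    have hfz : f * z = z * f := by
      have e2 : z * σ2 * z⁻¹ = σ2 * t := by
        calc z * σ2 * z⁻¹ = (z * d) * σ * (z * d)⁻¹ := by rw [hσ2def]; group
          _ = d * (z * σ * z⁻¹) * d⁻¹ := by rw [← hdz]; group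
          _ = d * σ * (t * d⁻¹) := by rw [hσz]; group
          _ = σ2 * t := by rw [hd', ← hdt, hσ2def, hd']; group
      have e : z * f * z⁻¹ = f := by
        calc z * f * z⁻¹ = (z * σ * z⁻¹) * (z * σ2 * z⁻¹) := by rw [hfdef]; group
          _ = σ * (t * σ2) * t := by rw [hσz, e2]; group
          _ = f := by rw [← hσ2t, hfdef, mul_assoc, mul_assoc, ht2, mul_one]
      exact (mul_inv_eq_iff_eq_mul.mp e).symm
    have hfd : f * d = d * f := by
      have e : d * f * d⁻¹ = f := by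
        calc d * f * d⁻¹ = (d * σ * d⁻¹) * (d * σ2 * d⁻¹) := by rw [hfdef]; group
          _ = σ2 * ((d * d) * σ * (d * d)⁻¹) := by rw [hσ2def]; group
          _ = σ2 * σ := by rw [hd, one_mul, inv_one, mul_one]
          _ = f := hss.symm
      exact (mul_inv_eq_iff_eq_mul.mp e).symm
    have hfall : ∀ L : Subgroup G, Intr t L → f ∈ normalizer (L : Set G) := fun L hL =>
      mul_mem (hL.le_normalizer hK1 hσ) (hL.le_normalizer hK2 hσ2K)
    have hfC : f ∈ C z := mem_C.mpr hfz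
    -- `f` preserves the pair, hence `M`
    have hfJ : cj f J = J ∨ cj f J = cj t J := by
      by_contra h
      push Not at h
      have hgJ := hJ.conj_self hfC
      set c' := t * c * t⁻¹
      have hc'C : c' ∈ C z := mul_mem (mul_mem htC hcC) (inv_mem htC)
      have h1 : c * c' ∈ cent z (cj f J) :=
        mul_mem (hgJ.other_le_cent hJ (Ne.symm h.1) hc) (hgJ.other_le_cent hJ2 (Ne.symm h.2) (conj_mem_cj hc))
      have h2 := conj_mem_cent hgJ.le (inv_mem hfC) (mul_mem h1 (core_le_cent hdc))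
      rw [mul_inv_cancel_left, cj_cj, inv_mul_cancel, cj_one, inv_inv,
        mul_assoc, ← hfd, inv_mul_cancel_left] at h2
      have h3 : (c * c') ∈ cent z J := by
        have := mul_mem h2 (inv_mem (core_le_cent (J := J) hdc))
        rwa [mul_inv_rev, inv_inv, ← mul_assoc, mul_inv_cancel, one_mul] at this
      exact hJ.prod_not_cent hJ2 htJ hc hc2 (conj_mem_cj hc) h3
    have hF : ∀ m ∈ M, bar z ⟨f, hfC⟩ * m * (bar z ⟨f, hfC⟩)⁻¹ ∈ M := by
      rintro _ ⟨j, rfl⟩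
      set F : Bar z := bar z ⟨f, hfC⟩ with hFdef
      have hFT : F * T = T * F := by
        rw [hFdef, hT, ← map_mul, ← map_mul]
        exact congrArg (bar z) (Subtype.ext hft)
      show F * (b j * (T * b j * T⁻¹)) * F⁻¹ ∈ M
      have e : F * (b j * (T * b j * T⁻¹)) * F⁻¹ = F * b j * F⁻¹ * (T * (F * b j * F⁻¹) * T⁻¹) := by
        calc F * (b j * (T * b j * T⁻¹)) * F⁻¹ = F * b j * F⁻¹ * ((F * T) * b j * (F * T)⁻¹) := by group
          _ = _ := by rw [hFT]; group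
      rw [e]
      have hfj : f * (j : G) * f⁻¹ ∈ cj f J := conj_mem_cj j.2
      have hFj : F * b j * F⁻¹ = bar z ⟨f * (j : G) * f⁻¹, mul_mem (mul_mem hfC (hJ.le j.2)) (inv_mem hfC)⟩ := by
        rw [hFdef, ← map_inv]
        show bar z ⟨f, hfC⟩ * bar z ⟨(j : G), hJ.le j.2⟩ * bar z ⟨f, hfC⟩⁻¹ = _
        rw [← map_mul, ← map_mul]
        rfl
      rcases hfJ with h | h
      · rw [h] at hfj
        rw [hFj]
        exact ⟨⟨_, hfj⟩, rfl⟩
      · rw [h, mem_cj] at hfj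
        refine ⟨⟨_, hfj⟩, ?_⟩
        show b ⟨_, hfj⟩ * (T * b ⟨_, hfj⟩ * T⁻¹) = _
        have e1 : b ⟨_, hfj⟩ = T⁻¹ * (F * b j * F⁻¹) * T := by
          rw [hFj, hT, ← map_inv, ← map_mul, ← map_mul]
          rfl
        rw [hcomm, e1]
        have hTi : T⁻¹ = T := inv_eq_of_mul_eq_one_right hTT
        calc T * (T⁻¹ * (F * b j * F⁻¹) * T) * T⁻¹ * (T⁻¹ * (F * b j * F⁻¹) * T) =
              (F * b j * F⁻¹) * (T⁻¹ * (F * b j * F⁻¹) * T) := by group
          _ = _ := by rw [hTi]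
    have hfDh : ∀ x ∈ Dh, f * x * f⁻¹ ∈ Dh := by
      intro x hx
      refine hDh_mem (mul_mem (mul_mem hfC (hDh_le hx).1) (inv_mem hfC))
        (mul_mem (mul_mem (mem_C.mpr hft) hx.2) (inv_mem (mem_C.mpr hft))) ?_
      have := hF _ (hDh_bar hx)
      rw [← map_inv, ← map_mul, ← map_mul] at this
      exact this
    -- some element of `Dh` moves `K1` outside the pair
    obtain ⟨x, hx, hx1, hx2⟩ : ∃ x ∈ Dh, cj x K1 ≠ K1 ∧ cj x K1 ≠ K2 := by
      by_contra h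
      push Not at h
      have hK12 : K1 ≠ K2 := Ne.symm hyd
      have h' : ∀ a ∈ Dh, cj a K1 = K1 ∨ cj a K1 = K2 := fun a ha =>
        (em (cj a K1 = K1)).imp_right (h a ha)
      have hperm : ∀ a ∈ Dh, (cj a K1 = K1 ∧ cj a K2 = K2) ∨ (cj a K1 = K2 ∧ cj a K2 = K1) := by
        intro a ha
        have h2 : cj a K2 = K1 ∨ cj a K2 = K2 := by
          rw [hK2def, cj_cj]; exact h' _ (mul_mem ha hdDh)
        rcases h' a ha with h1 | h1 <;> rcases h2 with h2 | h2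
        · exact absurd (cj_inj (h1.trans h2.symm)) hK12
        · exact Or.inl ⟨h1, h2⟩
        · exact Or.inr ⟨h1, h2⟩
        · exact absurd (cj_inj (h1.trans h2.symm)) hK12
      have hMN : M ≤ Nb := by
        have hMD : M ≤ barS z Dh := by
          rintro _ ⟨j, rfl⟩
          obtain ⟨a, ha, hat, hab⟩ := hlift j
          rw [← hab]
          exact bar_mem_barS (hDh_mem ha hat (hab ▸ ⟨j, rfl⟩)) _
        refine (le_commutator_barS hM hMD).trans (map_mono (subgroupOf_mono _ ?_))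
        refine commutator_le.mpr fun a ha a' ha' => hNmem.mpr ⟨?_, ?_⟩
        · rw [commutatorElement_def]
          exact mul_mem (mul_mem (mul_mem ha ha') (inv_mem ha)) (inv_mem ha')
        intro w hw
        have hinv : ∀ {a : G}, a ∈ Dh →
            (cj a K1 = K1 → cj a⁻¹ K1 = K1) ∧ (cj a K1 = K2 → cj a⁻¹ K1 = K2) := fun {a} ha => by
          have hp := hperm a⁻¹ (inv_mem ha)
          refine ⟨fun e => ?_, fun e => ?_⟩
          · conv_lhs => rw [← e, cj_cj, inv_mul_cancel, cj_one]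
          · rcases hp with hp | hp
            · have e' : cj a⁻¹ K2 = K1 := by rw [← e, cj_cj, inv_mul_cancel, cj_one]
              exact absurd (hp.2.symm.trans e').symm hK12
            · exact hp.1
        have key : ∀ L, (L = K1 ∨ L = K2) → cj ⁅a, a'⁆ L = L := by
          intro L hL
          rw [commutatorElement_def, ← cj_cj, ← cj_cj, ← cj_cj]
          rcases hperm a ha with ⟨p1, p2⟩ | ⟨p1, p2⟩ <;> rcases hperm a' ha' with ⟨q1, q2⟩ | ⟨q1, q2⟩ <;>
            rcases hperm a⁻¹ (inv_mem ha) with ⟨p1', p2'⟩ | ⟨p1', p2'⟩ <;>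
            rcases hperm a'⁻¹ (inv_mem ha') with ⟨q1', q2'⟩ | ⟨q1', q2'⟩ <;>
            have hpa := (hinv ha) <;> have hqa := (hinv ha') <;>
            rcases hL with rfl | rfl <;>
            simp only [p1, p2, q1, q2, p1', p2', q1', q2', hK12, hK12.symm, forall_const, IsEmpty.forall_iff,
              and_true, true_and, and_self] at *
        refine key _ ?_
        have hyw : cj w K = cj (w * y⁻¹) K1 := by
          rw [hK1def, cj_cj, inv_mul_cancel_right]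
        rw [hyw]
        exact h' _ (mul_mem hw (inv_mem hy))
      exact hJ.not_cent_of_sq hc hc2 (hcent ⟨c, hc⟩ (hMN ⟨_, rfl⟩))
    set K3 := cj x K1 with hK3def
    have hxt : x ∈ C t := (hDh_le hx).2
    have hK3 : Intr t K3 := hK1.conj_self hxt
    set g := x * f * x⁻¹ * f⁻¹ with hgdef
    have hgDh : g ∈ Dh := by
      have := mul_mem hx (hfDh _ (inv_mem hx))
      rwa [← mul_assoc, ← mul_assoc] at this
    have hgN : g ∈ N := by
      refine hNmem.mpr ⟨hgDh, fun w hw => ?_⟩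
      have hL : Intr t (cj w K) := hK.conj_self (hDh_le hw).2
      have h1 : f ∈ normalizer (cj w K : Set G) := hfall _ hL
      have h2 : x * f * x⁻¹ ∈ normalizer (cj w K : Set G) := by
        have e := cj_eq_iff.mpr (hfall _ (hL.conj_self (inv_mem hxt)))
        refine cj_eq_iff.mp ?_
        have e' := congrArg (cj x) e
        simp only [cj_cj, ← mul_assoc, mul_inv_cancel, one_mul] at e' ⊢
        exact e'
      exact cj_eq_iff.mpr (mul_mem h2 (inv_mem h1))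
    -- `g` has odd order
    obtain ⟨j, hj⟩ := hDh_bar hgDh
    have hjc : (j : G) ∈ cent z J := hcent j (hj ▸ bar_mem_barS hgN _)
    obtain ⟨e2, m, hm, hje⟩ := Nat.exists_eq_two_pow_mul_odd (orderOf_pos (j : G)).ne'
    have hjm2 : Two ((j : G) ^ m) := ⟨e2, by rw [← pow_mul, mul_comm, ← hje, pow_orderOf_eq_one]⟩
    have hφm : φ j ^ m = 1 := by
      rw [← map_pow]
      rcases hJ.cent_two (pow_mem j.2 m) hjm2 (pow_mem hjc m) with h | h
      · rw [show j ^ m = 1 from Subtype.ext h, map_one]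
      · show b (j ^ m) * (T * b (j ^ m) * T⁻¹) = 1
        rw [show j ^ m = ⟨z, hJ.mem⟩ from Subtype.ext h]
        have hzc : b ⟨z, hJ.mem⟩ * T = T * b ⟨z, hJ.mem⟩ := by
          show bar z ⟨z, hJ.le hJ.mem⟩ * T = T * bar z ⟨z, hJ.le hJ.mem⟩
          rw [hT, ← map_mul, ← map_mul]
          exact congrArg (bar z) (Subtype.ext htz.symm)
        rw [← hzc, mul_inv_cancel_right, ← map_mul]
        rw [show (⟨z, hJ.mem⟩ : ↥J) * ⟨z, hJ.mem⟩ = 1 from Subtype.ext hJ.mul_self, map_one]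
    have hgm : g ^ m ∈ core z := by
      refine bar_eq_one (x := (⟨g, (hDh_le hgDh).1⟩ : C z) ^ m).mp ?_
      rw [map_pow, ← hj, hφm]
    have hgodd : Odd (orderOf g) :=
      (hm.mul (core_odd hgm)).of_dvd_nat (orderOf_dvd_of_pow_eq_one (by rw [pow_mul, pow_orderOf_eq_one]))
    -- `g` induces an element of order four on `K3`
    set σ3 := x * σ * x⁻¹ with hσ3
    have hσ3K : σ3 ∈ K3 := conj_mem_cj hσ
    have hσ3sq : σ3 * σ3 = t := by
      calc σ3 * σ3 = x * (σ * σ) * x⁻¹ := by rw [hσ3]; group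
        _ = t := by rw [hσ2, mem_C.mp hxt, mul_inv_cancel_right]
    have he : σ3⁻¹ * g ∈ cent t K3 := by
      have eq1 : σ3⁻¹ * g = x * σ2 * x⁻¹ * (σ2⁻¹ * σ⁻¹) := by rw [hσ3, hgdef, hfdef]; group
      rw [eq1]
      refine mul_mem (hK3.other_le_cent (hK2.conj_self hxt) ?_ (conj_mem_cj hσ2K))
        (mul_mem (inv_mem (hK3.other_le_cent hK2 (Ne.symm hx2) hσ2K))
          (inv_mem (hK3.other_le_cent hK1 (Ne.symm hx1) hσ)))
      exact fun h => hyd (cj_inj h)
    have hpow := pow_mem_cent hK3 hσ3K he (orderOf g)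
    rw [mul_inv_cancel_left, pow_orderOf_eq_one, mul_one] at hpow
    obtain ⟨k, hk⟩ := hgodd
    have hsk : σ3 ^ orderOf g = t ^ k * σ3 := by
      rw [hk, pow_succ, pow_mul, pow_two, hσ3sq]
    have hsc : t ^ k * σ3 ∈ cent t K3 := hsk ▸ inv_mem_iff.mp hpow
    exact hK3.not_cent_of_sq hσ3K hσ3sq
      ((mul_mem_cancel_left (pow_mem hK3.mem_cent_self k)).mp hsc)

end Cfsg.Agent.H33.IntrinsicSL2
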