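import Cfsg.Agent.H33.IntrinsicSL2.Steps
import Cfsg.Agent.H33.IntrinsicSL2.Endgame
import Cfsg.Agent.H33.IntrinsicSL2.Kernel
import Cfsg.Agent.H33.IntrinsicSL2.FixedPair
import Cfsg.Agent.H33.IntrinsicSL2.Config
import Cfsg.Agent.H33.IntrinsicSL2.Cycle
import Cfsg.Agent.H33.IntrinsicSL2.Final

/-!
Intrinsic involutions of quaternion type: the two parts.
-/

set_option autoImplicit false

namespace Cfsg.Agent.H33.IntrinsicSL2

open Subgroup
open scoped commutatorElement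

variable {G : Type*} [Group G] [Finite G]

theorem part_one {z t : G} {J K : Subgroup G} (hJ : Intr z J) (hK : Intr t K) {y : G} (hy : y ∈ K)
    (hy2 : Two y) (hy4 : y * y ≠ 1) (hyz : y * z = z * y) : y ∈ normalizer (J : Set G) := by
  by_cases hzt : z = t
  · subst hzt; exact hJ.le_normalizer hK hy
  obtain ⟨k, hk⟩ := hy2
  induction k generalizing y with
  | zero => exact absurd (by rw [pow_zero, pow_one] at hk; rw [hk, one_mul]) hy4
  | succ k ih =>
    have h2 : Two y := ⟨k + 1, hk⟩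
    have hyy : y * y * z = z * (y * y) := ((show Commute y z from hyz).mul_left (show Commute y z from hyz)).eq
    have hyJ : y * y ∈ normalizer (J : Set G) ∧ t ∈ normalizer (J : Set G) := by
      by_cases h8 : y * y * (y * y) = 1
      · have hyt : y * y = t := hK.uniq _ (mul_mem hy hy) (orderOf_eq_two h8 hy4)
        have h := step_one hJ hK hzt hy hyt hyz
        exact ⟨hyt ▸ h, h⟩
      · have hk' : (y * y) ^ 2 ^ k = 1 := by rw [← pow_two, ← pow_mul, ← pow_succ', hk]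
        have h := ih (mul_mem hy hy) h8 hyy hk'
        exact ⟨h, zpowers_le.mpr h (hK.mem_zpowers_of_two (mul_mem hy hy) ⟨k, hk'⟩ hy4)⟩
    by_contra hn
    have hJ2 : cj y J ≠ J := fun h => hn (cj_eq_iff.mp h)
    obtain ⟨S, hS, hSC, hyS, s, hs, hsS, hs2, hts⟩ :=
      exists_neg hJ hK hzt hy h2 hy4 hyz hyJ.2 (cj_eq_iff.mpr hyJ.1) hJ2
    obtain ⟨hyt, hsy, he, hzy, c, hc, c', hc', hc2, hc'2, hcc, htc⟩ :=
      exists_config hJ hK hzt hy h2 hy4 hyz (cj_eq_iff.mpr hyJ.1) hJ2 hS hSC hyS hs hsS hs2 hts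
    exact endgame hJ hK hzt hy hyt hyz hJ2 (cj_eq_iff.mpr hyJ.1) hs hs2 hts hsy hc hc' hc2 hc'2 hcc htc he hzy

theorem part_two {z t : G} {J K : Subgroup G} (hJ : Intr z J) (hK : Intr t K)
    (hzK : z ∈ normalizer (K : Set G)) : t ∈ normalizer (J : Set G) := by
  by_cases hzt : z = t
  · subst hzt; exact le_normalizer hJ.mem
  haveI : Fact (Nat.Prime 2) := ⟨Nat.prime_two⟩
  have hzz := hJ.mul_self
  have htt := hK.mul_self
  have hord : orderOf (z * t * z⁻¹) = 2 :=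
    (orderOf_injective (MulAut.conj z).toMonoidHom (MulAut.conj z).injective t).trans hK.ord
  have htz : t * z = z * t :=
    (mul_inv_eq_iff_eq_mul.mp (hK.uniq _ ((mem_normalizer_iff.mp hzK t).mp hK.mem) hord)).symm
  by_cases hno : ∀ y ∈ K, y * y = t → y * z ≠ z * y
  swap
  · push Not at hno
    obtain ⟨y, hy, hyt, hyz⟩ := hno
    exact step_one hJ hK hzt hy hyt hyz
  by_contra hn
  have htJ : cj t J ≠ J := fun h => hn (cj_eq_iff.mp h)
  have htC : t ∈ C z := mem_C.mpr htz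
  have hJ' : Intr z (cj t J) := hJ.conj_self htC
  obtain ⟨S, hS, htS, hSC, hSQ⟩ := exists_sylow_C (a := z) (Two.of_sq htt).zpowers (zpowers_le.mpr htC)
  obtain ⟨Q, hQ⟩ := hSQ J hJ
  obtain ⟨-, r, hr⟩ := hJ.uperf.exists_shape Q
  obtain ⟨c0, hc0, hc00⟩ := exists_sq_in_zpowers hJ.uperf hr.big (two_pow_orderOf hr.mem)
  obtain ⟨c, hcdef⟩ : ∃ c : G, c = (c0 : G) := ⟨_, rfl⟩
  have hc : c ∈ J := hcdef ▸ c0.2
  have hcS : c ∈ S := hcdef ▸ (hQ c0).mp (zpowers_le.mpr hr.mem hc0)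
  have hc2 : c * c = z := hcdef ▸ congrArg Subtype.val hc00
  obtain ⟨c', hc'def⟩ : ∃ c', c' = t * c * t⁻¹ := ⟨_, rfl⟩
  have htS' : t ∈ S := htS (mem_zpowers t)
  have hc' : c' ∈ cj t J := hc'def ▸ conj_mem_cj hc
  have hc'S : c' ∈ S := hc'def ▸ mul_mem (mul_mem htS' hcS) (inv_mem htS')
  have hcc : c * c' = c' * c := hJ.comm_exact hJ' htJ.symm hS hc hc' hcS hc'S
  have hc'2 : c' * c' = z := by
    calc c' * c' = t * (c * c) * t⁻¹ := by rw [hc'def]; group
      _ = z := by rw [hc2, htz, mul_inv_cancel_right]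
  obtain ⟨d, hddef⟩ : ∃ d, d = c * c' := ⟨_, rfl⟩
  have hd : d * d = 1 := by
    calc d * d = c * (c' * c) * c' := by rw [hddef]; group
      _ = (c * c) * (c' * c') := by rw [← hcc]; group
      _ = 1 := by rw [hc2, hc'2, hzz]
  have hdz : d * z = z * d := mem_C.mp (hddef ▸ mul_mem (hSC hcS) (hSC hc'S))
  have hdt : d * t = t * d := by
    have h : t * c' * t⁻¹ = c := by
      calc t * c' * t⁻¹ = (t * t) * c * (t * t)⁻¹ := by rw [hc'def]; group
        _ = c := by rw [htt]; group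
    refine (mul_inv_eq_iff_eq_mul.mp ?_).symm
    calc t * d * t⁻¹ = (t * c * t⁻¹) * (t * c' * t⁻¹) := by rw [hddef]; group
      _ = d := by rw [h, ← hc'def, ← hcc, hddef]
  obtain ⟨K', hK', hzK', hno', D, hD, hdD⟩ := exists_derived_fix hJ hK hzt (cj_eq_iff.mpr hzK) htz htJ hno
    hc hc2 hdz hdt hd (by rw [← hc'def, ← hddef, inv_mul_cancel]; exact one_mem _)
  obtain ⟨σ, hσ, η, hη, hσ2, hη2, hησ, hzσ, hσd, hηd⟩ :=
    exists_fixed_pair hK' hzt hzz htz hzK' hno' hD hd hdD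
  have hdN : d ∈ normalizer (K' : Set G) :=
    (hD.trans inf_le_right) ((commutator_le_self _).trans ((commutator_le_self _).trans ((commutator_le_self _).trans (commutator_le_self _))) hdD)
  let α : MulAut K' := K'.normalizerMonoidHom ⟨d, hdN⟩
  have hα : ∀ x : K', ((α x : K') : G) = d * x * d⁻¹ := fun x => rfl
  have hinv : ∀ x, α (α x) = x := fun x => Subtype.ext (by
    rw [hα, hα]
    calc d * (d * (x : G) * d⁻¹) * d⁻¹ = (d * d) * x * (d * d)⁻¹ := by group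
      _ = x := by rw [hd]; group)
  obtain ⟨h, hαh, hodd, h1, h2⟩ := hK'.uperf.exists_fixed_cycle α hinv (c := ⟨η, hη⟩) (s := ⟨σ, hσ⟩)
    (Subtype.ext hη2) (Subtype.ext hσ2) (Subtype.ext hησ)
    (Subtype.ext (by rw [hα]; exact mul_inv_eq_iff_eq_mul.mpr hηd.symm))
    (Subtype.ext (by rw [hα]; exact mul_inv_eq_iff_eq_mul.mpr hσd.symm))
  have hhd : (h : G) * d = d * h := by
    have e := congrArg Subtype.val hαh
    rw [hα] at e
    exact (mul_inv_eq_iff_eq_mul.mp e).symm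
  -- transport to `C z`
  have htinv : t⁻¹ = t := inv_eq_of_mul_eq_one_right htt
  have hcz : c⁻¹ = c * z := inv_eq_of_mul_eq_one_right (by rw [← mul_assoc, hc2, hzz])
  have hc'z : c'⁻¹ = c' * z := inv_eq_of_mul_eq_one_right (by rw [← mul_assoc, hc'2, hzz])
  obtain ⟨g, hg⟩ : ∃ g, g = c * σ := ⟨_, rfl⟩
  have hσzσ : σ⁻¹ * z * σ = t * z := by
    have e : z * σ = σ * t * z := mul_inv_eq_iff_eq_mul.mp hzσ
    rw [mul_assoc, e, ← mul_assoc, ← mul_assoc, inv_mul_cancel, one_mul]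
  have hσt : σ * t = t * σ := mem_C.mp (hK'.le hσ)
  have hzc' : z * c' = c' * z := (mem_C.mp (hSC hc'S)).symm
  have hgt : g⁻¹ * t * g = d * z := by
    have e1 : c⁻¹ * t * c = d * z * t := by
      calc c⁻¹ * t * c = c⁻¹ * (t * c * t⁻¹) * t := by group
        _ = c * (z * c') * t := by rw [← hc'def, hcz]; group
        _ = d * z * t := by rw [hzc', hddef]; group
    calc g⁻¹ * t * g = σ⁻¹ * (c⁻¹ * t * c) * σ := by rw [hg]; group
      _ = (σ⁻¹ * d * σ) * (σ⁻¹ * z * σ) * (σ⁻¹ * t * σ) := by rw [e1]; group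
      _ = d * (t * z) * t := by
        rw [hσzσ, mul_assoc σ⁻¹ d σ, ← hσd, inv_mul_cancel_left, mul_assoc σ⁻¹ t σ, ← hσt, inv_mul_cancel_left]
      _ = d * z := by rw [htz, mul_assoc, mul_assoc, htt, mul_one]
  have hgz : g * z * g⁻¹ = d * t := by
    have e2 : σ * z * σ⁻¹ = t * z := by
      calc σ * z * σ⁻¹ = σ * (t * (t * z)) * σ⁻¹ := by rw [← mul_assoc t, htt, one_mul]
        _ = σ * t * (σ⁻¹ * z * σ) * σ⁻¹ := by rw [hσzσ]; group
        _ = t * z := by rw [hσt]; group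
    calc g * z * g⁻¹ = c * (σ * z * σ⁻¹) * c⁻¹ := by rw [hg]; group
      _ = c * (t * c⁻¹ * t⁻¹) * t * (c * z * c⁻¹) := by rw [e2]; group
      _ = c * c'⁻¹ * t * z := by
        rw [show t * c⁻¹ * t⁻¹ = c'⁻¹ by rw [hc'def]; group, mem_C.mp (hJ.le hc), mul_inv_cancel_right]
      _ = d * t := by
        rw [hc'z, ← mul_assoc, ← hddef, mul_assoc (d * z), htz, ← mul_assoc, mul_assoc d z z, hzz, mul_one]
  have tr : ∀ x ∈ K', x * d = d * x → g⁻¹ * x * g ∈ C z := by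
    intro x hx hxd
    have e : x * (g * z * g⁻¹) = g * z * g⁻¹ * x := by
      rw [hgz, ← mul_assoc, hxd, mul_assoc, mem_C.mp (hK'.le hx), mul_assoc]
    refine mem_C.mpr ?_
    calc g⁻¹ * x * g * z = g⁻¹ * (x * (g * z * g⁻¹)) * g := by group
      _ = z * (g⁻¹ * x * g) := by rw [e]; group
  have hsq : ∀ x, x * x = t → g⁻¹ * x * g * (g⁻¹ * x * g) = d * z := fun x hx => by
    rw [← hgt, ← hx]; group
  have hconj : ∀ u x v : G, u * x * u⁻¹ = v →
      g⁻¹ * u * g * (g⁻¹ * x * g) * (g⁻¹ * u * g)⁻¹ = g⁻¹ * v * g := fun u x v e => by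
    rw [← e]; group
  refine no_quaternion_root hJ hJ' htJ hc (c' := c' * z) hc2 (mul_mem hc' hJ'.mem)
    (by rw [mul_assoc, ← mul_assoc z, hzc', mul_assoc, hzz, mul_one, hc'2])
    (e := d * z) (by rw [hddef, mul_assoc])
    (by rw [mul_assoc, ← mul_assoc z, ← hdz, mul_assoc, hzz, mul_one, hd])
    (tr η hη hηd) (tr σ hσ hσd) (tr h h.2 hhd) (hsq η hη2) (hsq σ hσ2)
    (by rw [hconj η σ σ⁻¹ hησ]; group) ?_ ?_ ?_
  · rw [show g⁻¹ * (h : G) * g = (MulAut.conj g⁻¹).toMonoidHom (h : G) by simp,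
      orderOf_injective _ (MulAut.conj g⁻¹).injective, Subgroup.orderOf_coe]
    exact hodd
  · rcases h1 with h1 | h1
    · exact Or.inl (by rw [hconj h η σ (congrArg Subtype.val h1)])
    · exact Or.inr (by rw [hconj h η σ⁻¹ (congrArg Subtype.val h1)]; group)
  · rcases h2 with h2 | h2
    · exact Or.inl (by rw [hconj h σ (η * σ) (congrArg Subtype.val h2)]; group)
    · exact Or.inr (by rw [hconj h σ (η * σ)⁻¹ (congrArg Subtype.val h2)]; group)

end Cfsg.Agent.H33.IntrinsicSL2
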