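import Cfsg.Agent.H33.IntrinsicSL2.Comp

/-!
An involution acting nontrivially on exactly two components, and images of components modulo the core.
-/

set_option autoImplicit false

namespace Cfsg.Agent.H33.IntrinsicSL2

open Subgroup
open scoped commutatorElement

variable {G : Type*} [Group G] [Finite G] {a : G} {J J2 : Subgroup G}

theorem Intr.not_cent_of_sq (hJ : Intr a J) {c : G} (hc : c ∈ J) (hc2 : c * c = a) :
    c ∉ cent a J := by
  intro h
  have h4 : Two c := ⟨2, by rw [show 2 ^ 2 = 2 + 2 from rfl, pow_add, pow_two, hc2, hJ.mul_self]⟩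
  have hne := ne_one_of_two hJ.ord
  rcases hJ.cent_two hc h4 h with rfl | rfl
  · exact hne (by simpa using hc2.symm)
  · exact hne (hc2.symm.trans hJ.mul_self)

theorem Intr.prod_not_cent (hJ : Intr a J) (hJ2 : Intr a J2) (hne : J2 ≠ J) {c c' : G} (hc : c ∈ J)
    (hc2 : c * c = a) (hc' : c' ∈ J2) : c * c' ∉ cent a J := fun h =>
  hJ.not_cent_of_sq hc hc2 (by simpa using mul_mem h (inv_mem (hJ.other_le_cent hJ2 hne hc')))

/-- An element commuting with `c * c'` permutes the two components it moves. -/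
theorem Intr.pair (hJ : Intr a J) (hJ2 : Intr a J2) (hne : J2 ≠ J) {c c' g : G} (hc : c ∈ J)
    (hc2 : c * c = a) (hc' : c' ∈ J2) (hg : g ∈ C a) (hge : g * (c * c') = c * c' * g) :
    cj g J = J ∨ cj g J = J2 := by
  by_contra h
  push Not at h
  have hgJ := hJ.conj_self hg
  have h1 : c * c' ∈ cent a (cj g J) :=
    mul_mem (hgJ.other_le_cent hJ (Ne.symm h.1) hc) (hgJ.other_le_cent hJ2 (Ne.symm h.2) hc')
  have h2 := conj_mem_cent hgJ.le (inv_mem hg) h1
  rw [cj_cj, inv_mul_cancel, cj_one] at h2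
  refine hJ.prod_not_cent hJ2 hne hc hc2 hc' ?_
  convert h2 using 1
  rw [inv_inv, mul_assoc, ← hge, inv_mul_cancel_left]

/-- The unique involution in the image of a component. -/
theorem Intr.uperf_bar (hJ : Intr a J) :
    UPerf (⟨bar a ⟨a, hJ.le hJ.mem⟩, bar_mem_barS hJ.mem _⟩ : ↥(barS a J)) := by
  have hab : bar a ⟨a, hJ.le hJ.mem⟩ ≠ 1 := fun h =>
    ne_one_of_two hJ.ord (core_two (bar_eq_one.mp h) (Two.of_sq hJ.mul_self))
  refine ⟨orderOf_eq_two (Subtype.ext ?_) (fun h => hab (congrArg Subtype.val h)), ?_, hJ.component.2.1⟩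
  · show bar a ⟨a, hJ.le hJ.mem⟩ * bar a ⟨a, hJ.le hJ.mem⟩ = 1
    rw [← map_mul, bar_eq_one]
    show a * a ∈ core a
    rw [hJ.mul_self]
    exact one_mem _
  rintro ⟨_, ⟨x, hxC⟩, hx, rfl⟩ hu
  have hu1 : bar a ⟨x, hxC⟩ * bar a ⟨x, hxC⟩ = 1 := congrArg Subtype.val (mul_self_of_two hu)
  have hu0 : bar a ⟨x, hxC⟩ ≠ 1 := fun h => ne_one_of_two hu (Subtype.ext h)
  rw [← map_mul, bar_eq_one] at hu1
  change x * x ∈ core a at hu1
  obtain ⟨k, hk⟩ := core_odd hu1
  have h1 : x ^ orderOf (x * x) * x ^ orderOf (x * x) = 1 := by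
    rw [← (Commute.refl x).mul_pow, pow_orderOf_eq_one]
  have h2 : bar a ⟨x, hxC⟩ ^ orderOf (x * x) = bar a ⟨x, hxC⟩ := by
    rw [hk, pow_succ, pow_mul, pow_two]
    rw [← map_mul, bar_eq_one.mpr hu1, one_pow, one_mul]
  rcases hJ.sq_one (u := x ^ orderOf (x * x)) (pow_mem hx _) h1 with h | h
  · exfalso
    refine hu0 ?_
    rw [← h2, ← map_pow, bar_eq_one]
    show x ^ orderOf (x * x) ∈ core a
    rw [h]
    exact one_mem _
  · refine Subtype.ext ?_
    show bar a ⟨x, hxC⟩ = bar a ⟨a, hJ.le hJ.mem⟩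
    rw [← h2, ← map_pow]
    exact congrArg (bar a) (Subtype.ext h)

/-- The images of distinct components commute. -/
theorem Intr.bar_comm (hJ : Intr a J) (hJ2 : Intr a J2) (hne : J2 ≠ J) {x y : Bar a}
    (hx : x ∈ barS a J) (hy : y ∈ barS a J2) : x * y = y * x := by
  obtain ⟨⟨u, huC⟩, hu, rfl⟩ := hx
  obtain ⟨⟨v, hvC⟩, hv, rfl⟩ := hy
  rw [← commutatorElement_eq_one_iff_mul_comm, ← map_commutatorElement, bar_eq_one]
  exact hJ.comm_core hJ2 hne.symm hu hv

end Cfsg.Agent.H33.IntrinsicSL2
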