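import Cfsg.Agent.H33.IntrinsicSL2.Comp

/-!
Two commuting involutions with intrinsic components: an element of order four of one component
acting on the other.
-/

set_option autoImplicit false

namespace Cfsg.Agent.H33.IntrinsicSL2

open Subgroup
open scoped Pointwise commutatorElement

/-- A quaternion pair in a Sylow subgroup. -/
theorem UPerf.exists_pair {X : Type*} [Group X] [Finite X] {z : X} (H : UPerf z) (Q : Sylow 2 X) :
    ∃ a ∈ (Q : Subgroup X), ∃ b ∈ (Q : Subgroup X),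
      a * a = z ∧ b * b = z ∧ b * a * b⁻¹ = a⁻¹ := by
  obtain ⟨-, r, hS⟩ := H.exists_shape Q
  obtain ⟨v, hv, hvz⟩ := exists_sq_in_zpowers H hS.big (two_pow_orderOf hS.mem)
  have hvQ := zpowers_le.mpr hS.mem hv
  obtain ⟨s, hsQ, hs, hsv⟩ := H.exists_inverted Q hvQ hvz
  exact ⟨v, hvQ, s, hsQ, hvz, hs, hsv⟩

variable {G : Type*} [Group G] [Finite G]

omit [Finite G] in
theorem exists_pow_two : ∀ (k : ℕ) {x : G}, x ^ 2 ^ k = 1 → x ≠ 1 →
    ∃ n : ℕ, x ^ n * x ^ n = 1 ∧ x ^ n ≠ 1 := by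
  intro k
  induction k with
  | zero => intro x hx h1; exact absurd (by simpa using hx) h1
  | succ k ih =>
    intro x hx h1
    by_cases h2 : x * x = 1
    · exact ⟨1, by rwa [pow_one], by rwa [pow_one]⟩
    · obtain ⟨n, hn, hn1⟩ := ih (x := x ^ 2) (by rw [← pow_mul, ← pow_succ']; exact hx)
        (by rw [pow_two]; exact h2)
      exact ⟨2 * n, by rw [pow_mul]; exact hn, by rw [pow_mul]; exact hn1⟩

omit [Finite G] in
theorem Intr.ne_one' {z : G} {J : Subgroup G} (hJ : Intr z J) : z ≠ 1 := ne_one_of_two hJ.ord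

theorem Intr.sq_ne {z : G} {J : Subgroup G} (hJ : Intr z J) {q : G} (hq : q * q = z) :
    q ≠ 1 ∧ q ≠ z := by
  refine ⟨fun h => hJ.ne_one' ?_, fun h => hJ.ne_one' ?_⟩
  · rw [← hq, h, one_mul]
  · rw [← hq, h, hJ.mul_self]

omit [Finite G] in
theorem comm_of_mem_C {a g : G} (h : g ∈ C a) : Commute g a := mem_C.mp h

omit [Finite G] in
theorem conj_eq_of_commute {x g : G} (h : Commute g x) : g⁻¹ * x * g = x := by
  rw [mul_assoc, ← h.eq, inv_mul_cancel_left]

omit [Finite G] in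
theorem conj_eq_of_commute' {x g : G} (h : Commute g x) : g * x * g⁻¹ = x := by
  rw [h.eq, mul_inv_cancel_right]

/-- An element of order four fixes its component under a commuting element of the centraliser. -/
theorem Intr.cj_fix {t : G} {K : Subgroup G} (hK : Intr t K) {y g : G} (hy : y ∈ K) (h2 : Two y)
    (hy1 : y ≠ 1) (hyt : y ≠ t) (hg : g ∈ C t) (hgy : Commute g y) : cj g K = K := by
  by_contra h
  rcases hK.inter_two (hK.conj_self hg) h hy (mem_cj.mpr (by rwa [conj_eq_of_commute hgy])) h2 with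
    e | e
  exacts [hy1 e, hyt e]

theorem step_one {z t : G} {J K : Subgroup G} (hJ : Intr z J) (hK : Intr t K) (hzt : z ≠ t)
    {y : G} (hy : y ∈ K) (hyt : y * y = t) (hyz : y * z = z * y) :
    t ∈ normalizer (J : Set G) := by
  subst hyt
  have hyzC : Commute y z := hyz
  have hy4 : y * y * (y * y) = 1 := hK.mul_self
  have hy2 : Two y := ⟨2, by
    calc y ^ 2 ^ 2 = y * y * (y * y) := by simp [pow_succ, mul_assoc]
      _ = 1 := hy4⟩
  have hyy : Commute y (y * y) := (Commute.refl y).mul_right (Commute.refl y)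
  by_contra htN
  have hne : cj (y * y) J ≠ J := fun h => htN (cj_eq_iff.mp h)
  have hyC : y ∈ C z := mem_C.mpr hyz
  have htC : y * y ∈ C z := mul_mem hyC hyC
  obtain ⟨S, hS, hWS, hSC, hSy⟩ := exists_sylow_C (a := z) hy2.zpowers (zpowers_le.mpr hyC)
  have hyS : y ∈ S := hWS (mem_zpowers y)
  obtain ⟨Q, hQ⟩ := hSy J hJ
  -- the four components
  have hJ1 : Intr z (cj (y * y) J) := hJ.conj_self htC
  have hJ2 : Intr z (cj y⁻¹ J) := hJ.conj_self (inv_mem hyC)
  have hJ3 : Intr z (cj y J) := hJ.conj_self hyC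
  have h01 : J ≠ cj (y * y) J := fun h => hne h.symm
  have h03 : J ≠ cj y J := fun h => hne (by rw [← cj_cj, ← h, ← h])
  have h02 : J ≠ cj y⁻¹ J := fun h => h03 <| by
    have := congrArg (cj y) h
    rw [cj_cj, mul_inv_cancel, cj_one] at this
    exact this.symm
  have h13 : cj (y * y) J ≠ cj y J := fun h => h03 <| by
    rw [← cj_cj] at h
    exact (cj_inj h).symm
  have h23 : cj y⁻¹ J ≠ cj y J := fun h => h01 <| by
    have := congrArg (cj y) h
    rwa [cj_cj, cj_cj, mul_inv_cancel, cj_one] at this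
  have h12 : cj (y * y) J ≠ cj y⁻¹ J := fun h => h03 <| by
    have h' := congrArg (cj (y * y)) h
    rw [cj_cj, cj_cj, hy4, cj_one, mul_inv_cancel_right] at h'
    exact h'
  -- the elements built from `q`
  have hconjS : ∀ {g a : G}, g ∈ S → a ∈ S → g * a * g⁻¹ ∈ S :=
    fun hg ha => mul_mem (mul_mem hg ha) (inv_mem hg)
  let D : G → G := fun a => a * (y * y * a * (y * y)⁻¹)
  let D' : G → G := fun a => y⁻¹ * D a * y
  let P : G → Prop := fun a => a ∈ J ∧ a ∈ S
  have hD'eq : ∀ a : G, D' a = (y⁻¹ * a * y⁻¹⁻¹) * (y * a * y⁻¹) := fun a => by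
    simp only [D', D]; group
  have hcross : ∀ a b : G, P a → P b → Commute (D' a) (D b) := by
    intro a b ha hb
    have e1 : Commute (y⁻¹ * a * y⁻¹⁻¹) b := hJ2.comm_exact hJ h02.symm hS
      (conj_mem_cj ha.1) hb.1 (hconjS (inv_mem hyS) ha.2) hb.2
    have e2 : Commute (y⁻¹ * a * y⁻¹⁻¹) (y * y * b * (y * y)⁻¹) := hJ2.comm_exact hJ1 h12.symm hS
      (conj_mem_cj ha.1) (conj_mem_cj hb.1) (hconjS (inv_mem hyS) ha.2)
      (hconjS (mul_mem hyS hyS) hb.2)
    have e3 : Commute (y * a * y⁻¹) b := hJ3.comm_exact hJ h03.symm hS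
      (conj_mem_cj ha.1) hb.1 (hconjS hyS ha.2) hb.2
    have e4 : Commute (y * a * y⁻¹) (y * y * b * (y * y)⁻¹) := hJ3.comm_exact hJ1 h13.symm hS
      (conj_mem_cj ha.1) (conj_mem_cj hb.1) (hconjS hyS ha.2)
      (hconjS (mul_mem hyS hyS) hb.2)
    rw [hD'eq]
    exact (e1.mul_right e2).mul_left (e3.mul_right e4)
  have hin : ∀ a b : G, P a → P b → Commute a (y * y * b * (y * y)⁻¹) := fun a b ha hb =>
    hJ.comm_exact hJ1 h01 hS ha.1 (conj_mem_cj hb.1) ha.2 (hconjS (mul_mem hyS hyS) hb.2)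
  let W : G → G := fun a => D' a * D a
  have main : ∀ q : G, P q → q * q = z →
      W q * W q = 1 ∧ Commute y (W q) ∧ y * W q ∈ cent (y * y) K := by
    intro q hq hqz
    have hqzC : Commute q z := hqz ▸ (Commute.refl q).mul_right (Commute.refl q)
    have htz : Commute (y * y) z := hyzC.mul_left hyzC
    have hD2 : D q * D q = 1 := by
      calc D q * D q = (q * (y * y * q * (y * y)⁻¹)) * (q * (y * y * q * (y * y)⁻¹)) := rfl
        _ = (q * q) * ((y * y * q * (y * y)⁻¹) * (y * y * q * (y * y)⁻¹)) :=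
          Commute.mul_mul_mul_comm (hin q q hq hq).symm _ _
        _ = z * (y * y * z * (y * y)⁻¹) := by rw [hqz]; congr 1; rw [← hqz]; group
        _ = 1 := by rw [conj_eq_of_commute' htz, hJ.mul_self]
    have hDt : Commute (D q) (y * y) := by
      have key : ∀ u : G, u * (q * (u * q * u⁻¹)) * u⁻¹ =
          (u * q * u⁻¹) * ((u * u) * q * (u * u)⁻¹) := fun u => by group
      have : (y * y) * D q * (y * y)⁻¹ = D q := by
        calc (y * y) * D q * (y * y)⁻¹
            = (y * y * q * (y * y)⁻¹) * ((y * y * (y * y)) * q * (y * y * (y * y))⁻¹) := key _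
          _ = (y * y * q * (y * y)⁻¹) * q := by rw [hy4]; group
          _ = D q := (hin q q hq hq).symm.eq
      exact (mul_inv_eq_iff_eq_mul.mp this).symm
    have hDz : Commute (D q) z :=
      hqzC.mul_left ((htz.mul_left hqzC).mul_left htz.inv_left)
    have hDC : D q ∈ C (y * y) := mem_C.mpr hDt
    have hD'D : Commute (D' q) (D q) := hcross q q hq hq
    have hD'2 : D' q * D' q = 1 := by
      calc D' q * D' q = y⁻¹ * (D q * D q) * y := by simp only [D']; group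
        _ = 1 := by rw [hD2]; group
    have hW2 : W q * W q = 1 := by
      calc W q * W q = (D' q * D q) * (D' q * D q) := rfl
        _ = (D' q * D' q) * (D q * D q) := Commute.mul_mul_mul_comm hD'D.symm _ _
        _ = 1 := by rw [hD'2, hD2, one_mul]
    have hWy : Commute y (W q) := by
      refine mul_inv_eq_iff_eq_mul.mp ?_
      have e : y * D q * y⁻¹ = D' q := by
        calc y * D q * y⁻¹ = y⁻¹ * (y * y * D q * (y * y)⁻¹) * y := by group
          _ = D' q := by rw [conj_eq_of_commute' hDt.symm]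
      calc y * W q * y⁻¹ = D q * (y * D q * y⁻¹) := by simp only [W, D']; group
        _ = W q := by rw [e]; exact hD'D.symm.eq
    refine ⟨hW2, hWy, ?_⟩
    have hL : y * W q = D q * y * (D q)⁻¹ := by
      rw [inv_eq_of_mul_eq_one_right hD2]; simp only [W, D']; group
    have hLK := hK.conj_self hDC
    refine hK.other_le_cent hLK (fun hfix => ?_) (by rw [hL]; exact conj_mem_cj hy)
    have hWK : W q ∈ K := by
      have h1 : y * W q ∈ K := by rw [hL, ← hfix]; exact conj_mem_cj hy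
      have := mul_mem (inv_mem hy) h1
      rwa [inv_mul_cancel_left] at this
    rcases hK.sq_one hWK hW2 with h | h
    · have e : D' q = D q := by
        have h' : D' q * D q = 1 := h
        rw [mul_eq_one_iff_eq_inv] at h'
        rw [h']; exact inv_eq_of_mul_eq_one_right hD2
      have hqc : q ∈ cent z J := by
        have e' : q = D' q * (y * y * q * (y * y)⁻¹)⁻¹ := by rw [e]; simp only [D]; group
        rw [e', hD'eq]
        exact mul_mem (mul_mem (hJ.other_le_cent hJ2 h02.symm (conj_mem_cj hq.1))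
          (hJ.other_le_cent hJ3 h03.symm (conj_mem_cj hq.1)))
          (inv_mem (hJ.other_le_cent hJ1 h01.symm (conj_mem_cj hq.1)))
      rcases hJ.cent_two hq.1 (Two.of_mem hS hq.2) hqc with h | h
      exacts [(hJ.sq_ne hqz).1 h, (hJ.sq_ne hqz).2 h]
    · apply htN
      rw [← h]
      show D' q * D q ∈ _
      rw [hD'eq]
      exact mul_mem (mul_mem (hJ.le_normalizer hJ2 (conj_mem_cj hq.1))
        (hJ.le_normalizer hJ3 (conj_mem_cj hq.1)))
        (mul_mem (le_normalizer hq.1) (hJ.le_normalizer hJ1 (conj_mem_cj hq.1)))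
  obtain ⟨a, haQ, b, hbQ, ha, hb, hba⟩ := hJ.uperf.exists_pair Q
  have hPa : P (a : G) := ⟨a.2, (hQ a).mp haQ⟩
  have hPb : P (b : G) := ⟨b.2, (hQ b).mp hbQ⟩
  have hPc : P ((b * a : J) : G) := ⟨(b * a).2, (hQ _).mp (mul_mem hbQ haQ)⟩
  obtain ⟨hc, -, -, -⟩ := mul_pair_sq hJ.uperf hba hb ha
  obtain ⟨hA2, hAy, hAc⟩ := main (a : G) hPa (congrArg Subtype.val ha)
  obtain ⟨hB2, hBy, hBc⟩ := main (b : G) hPb (congrArg Subtype.val hb)
  obtain ⟨hC2, hCy, hCc⟩ := main ((b * a : J) : G) hPc (congrArg Subtype.val hc)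
  have hprod : W ((b * a : J) : G) = W b * W a := by
    show D' ((b : G) * a) * D ((b : G) * a) = _
    have e1 : D ((b : G) * a) = D b * D a := by
      have h := hin a b hPa hPb
      calc D ((b : G) * a)
          = (b : G) * ((a : G) * (y * y * b * (y * y)⁻¹)) * (y * y * a * (y * y)⁻¹) := by
            simp only [D]; group
        _ = (b : G) * ((y * y * b * (y * y)⁻¹) * a) * (y * y * a * (y * y)⁻¹) := by rw [h.eq]
        _ = D b * D a := by simp only [D]; group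
    have e2 : D' ((b : G) * a) = D' b * D' a := by
      show y⁻¹ * D ((b : G) * a) * y = _
      rw [e1]; simp only [D']; group
    rw [e1, e2]
    exact Commute.mul_mul_mul_comm (hcross a b hPa hPb) _ _
  have hC' : W ((b * a : J) : G) = W a * W b := by
    rw [← inv_eq_of_mul_eq_one_right hC2, hprod, mul_inv_rev,
      inv_eq_of_mul_eq_one_right hA2, inv_eq_of_mul_eq_one_right hB2]
  have hyc : y ∈ cent (y * y) K := by
    have h := mul_mem (mul_mem hAc hBc) (inv_mem hCc)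
    have e : y * W a * (y * W b) * (y * W ((b * a : J) : G))⁻¹ = y := by
      calc y * W a * (y * W b) * (y * W ((b * a : J) : G))⁻¹
          = y * (W a * y) * W b * (y * W ((b * a : J) : G))⁻¹ := by group
        _ = y := by rw [← hAy.eq, hC']; group
    rwa [e] at h
  rcases hK.cent_two hy hy2 hyc with h | h
  · exact hK.ne_one' (by rw [h, one_mul])
  · have e : y = 1 := mul_eq_left.mp h.symm
    exact hK.ne_one' (by rw [e, one_mul])

theorem mul_four_move {M : Type*} [Group M] {a b c d : M} (h : Commute d (b * c)) :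
    a * b * c * d = a * d * (b * c) := by
  rw [mul_assoc a d, h.eq]; simp only [mul_assoc]

theorem mul_four_swap {M : Type*} [Group M] {a b c d : M} (hab : Commute a b)
    (h : Commute d (a * c)) : a * b * c * d = b * d * (a * c) := by
  rw [hab.eq, mul_four_move h]

/-- No element of a component times a centralising element fixes an axis it inverts. -/
theorem Intr.no_fixed_axis {z : G} {L : Subgroup G} (hL : Intr z L) {c a b : G}
    (hc : c ∈ cent z L) (ha : a ∈ L) (haz : a * a = z) (hba : b * a * b⁻¹ = a⁻¹)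
    (hcomm : Commute (c * b) a) : False := by
  have h1 := ((mem_cent hL.le).mp hc).2 a⁻¹ (inv_mem ha)
  have h2 : ⁅c, a⁻¹⁆ = z := by
    calc ⁅c, a⁻¹⁆ = c * (b * a * b⁻¹) * c⁻¹ * a := by rw [hba, commutatorElement_def, inv_inv]
      _ = (c * b) * a * (c * b)⁻¹ * a := by group
      _ = z := by rw [conj_eq_of_commute' hcomm, haz]
  rw [h2] at h1
  exact hL.ne_one' (core_two h1 (Two.of_sq hL.mul_self))

/-- A 2-element of a component centralising a Sylow subgroup modulo the core is central there. -/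
theorem Intr.bar_central {z : G} {J : Subgroup G} (hJ : Intr z J) (Q : Sylow 2 ↥J) {b : J}
    (hb : Two (b : G))
    (hc : ∀ q ∈ (Q : Subgroup J),
      Commute (bar z (inclusion hJ.le b)) (bar z (inclusion hJ.le q))) :
    bar z (inclusion hJ.le b) = 1 ∨
      bar z (inclusion hJ.le b) = bar z (inclusion hJ.le ⟨z, hJ.mem⟩) := by
  haveI : Fact (Nat.Prime 2) := ⟨Nat.prime_two⟩
  set f : J →* Bar z := (bar z).comp (inclusion hJ.le) with hf
  have hb' : Two b := by
    obtain ⟨k, hk⟩ := hb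
    exact ⟨k, Subtype.ext (by simpa using hk)⟩
  let Q' : Sylow 2 f.range := Q.mapSurjective f.rangeRestrict_surjective
  have hnorm : zpowers (f.rangeRestrict b) ≤ normalizer ((Q' : Subgroup f.range) : Set f.range) := by
    refine zpowers_le.mpr ?_
    refine centralizer_le_normalizer _ (mem_centralizer_iff.mpr ?_)
    intro x hx
    rw [SetLike.mem_coe, Sylow.coe_mapSurjective] at hx
    obtain ⟨q, hq, rfl⟩ := hx
    exact Subtype.ext (hc q hq).symm.eq
  have hsup : IsPGroup 2 ↥(zpowers (f.rangeRestrict b) ⊔ (Q' : Subgroup f.range)) :=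
    ((hb'.map f.rangeRestrict).zpowers).to_sup_of_normal_right' Q'.isPGroup' hnorm
  have hmem : f.rangeRestrict b ∈ (Q' : Subgroup f.range) := by
    rw [← Q'.is_maximal' hsup le_sup_right]
    exact mem_sup_left (mem_zpowers _)
  rw [Sylow.coe_mapSurjective] at hmem
  obtain ⟨q, hq, hqb⟩ := hmem
  have hqb' : f q = f b := congrArg Subtype.val hqb
  have hqc : ∀ q' ∈ (Q : Subgroup J), q * q' = q' * q := by
    intro q' hq'
    refine commutatorElement_eq_one_iff_mul_comm.mp ?_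
    have hmem' : ⁅q, q'⁆ ∈ (Q : Subgroup J) := by
      rw [commutatorElement_def]
      exact mul_mem (mul_mem (mul_mem hq hq') (inv_mem hq)) (inv_mem hq')
    have h1 : f ⁅q, q'⁆ = 1 := by
      rw [map_commutatorElement, hqb', commutatorElement_eq_one_iff_mul_comm]
      exact (hc q' hq').eq
    exact Subtype.ext (core_two (bar_eq_one.mp h1)
      ((Two.of_mem Q.isPGroup' hmem').map J.subtype))
  show f b = 1 ∨ f b = f ⟨z, hJ.mem⟩
  rw [← hqb']
  rcases hJ.uperf.central Q hq hqc with rfl | rfl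
  · exact Or.inl (map_one f)
  · exact Or.inr rfl

/-- An involution is not a product of two components modulo the core, centralising Sylow
subgroups of both. -/
theorem Intr.no_split {z : G} {J J2 : Subgroup G} (hJ : Intr z J) (hJ2 : Intr z J2)
    (hne : J ≠ J2) (Q : Sylow 2 ↥J) (Q2 : Sylow 2 ↥J2) {t : ↥(C z)} (ht : t * t = 1)
    (ht1 : (t : G) ≠ 1) (htz : (t : G) ≠ z)
    (htQ : ∀ q ∈ (Q : Subgroup J), Commute (t : G) q)
    (htQ2 : ∀ q ∈ (Q2 : Subgroup J2), Commute (t : G) q) {b : J} {b2 : J2}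
    (hb : bar z t = bar z (inclusion hJ.le b) * bar z (inclusion hJ2.le b2)) : False := by
  haveI : Fact (Nat.Prime 2) := ⟨Nat.prime_two⟩
  have hcm : ∀ (u : J) (v : J2),
      Commute (bar z (inclusion hJ.le u)) (bar z (inclusion hJ2.le v)) := by
    intro u v
    refine commutatorElement_eq_one_iff_mul_comm.mp ?_
    rw [← map_commutatorElement]
    exact bar_eq_one.mpr (hJ.comm_core hJ2 hne u.2 v.2)
  have hn : Nat.card G ≠ 0 := Nat.card_pos.ne'
  set m := ordCompl[2] (Nat.card G) with hm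
  have hmodd : Odd m := Nat.odd_iff.mpr (Nat.two_dvd_ne_zero.mp
    (Nat.not_dvd_ordCompl Nat.prime_two hn))
  have htwo : ∀ x : G, Two (x ^ m) := fun x => ⟨(Nat.card G).factorization 2, by
    rw [← pow_mul, mul_comm, hm, Nat.ordProj_mul_ordCompl_eq_self, pow_card_eq_one']⟩
  have htm : t ^ m = t := by
    obtain ⟨k, hk⟩ := hmodd
    rw [hk, pow_succ, pow_mul, pow_two, ht, one_pow, one_mul]
  have hbm : bar z t = bar z (inclusion hJ.le (b ^ m)) * bar z (inclusion hJ2.le (b2 ^ m)) := by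
    conv_lhs => rw [← htm, map_pow, hb, (hcm b b2).mul_pow, ← map_pow, ← map_pow, ← map_pow,
      ← map_pow]
  have hcomm : ∀ (x : ↥(C z)), Commute (t : G) x → Commute (bar z t) (bar z x) := fun x hx =>
    (show Commute t x from Subtype.ext hx.eq).map (bar z)
  have h1 : bar z (inclusion hJ.le (b ^ m)) = 1 ∨
      bar z (inclusion hJ.le (b ^ m)) = bar z (inclusion hJ.le ⟨z, hJ.mem⟩) := by
    refine hJ.bar_central Q (by simpa using htwo b) fun q hq => ?_
    rw [show bar z (inclusion hJ.le (b ^ m)) = bar z t * (bar z (inclusion hJ2.le (b2 ^ m)))⁻¹ from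
      eq_mul_inv_of_mul_eq hbm.symm]
    exact (hcomm _ (htQ q hq)).mul_left (hcm q (b2 ^ m)).symm.inv_left
  have h2 : bar z (inclusion hJ2.le (b2 ^ m)) = 1 ∨
      bar z (inclusion hJ2.le (b2 ^ m)) = bar z (inclusion hJ2.le ⟨z, hJ2.mem⟩) := by
    refine hJ2.bar_central Q2 (by simpa using htwo b2) fun q hq => ?_
    rw [show bar z (inclusion hJ2.le (b2 ^ m)) = (bar z (inclusion hJ.le (b ^ m)))⁻¹ * bar z t from
      eq_inv_mul_of_mul_eq hbm.symm]
    exact (hcm (b ^ m) q).inv_left.mul_left (hcomm _ (htQ2 q hq))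
  set Z : ↥(C z) := ⟨z, mem_C.mpr rfl⟩ with hZ
  have hZ2 : Z * Z = 1 := Subtype.ext hJ.mul_self
  have hfin : bar z t = 1 ∨ bar z t = bar z Z := by
    rw [hbm]
    rcases h1 with e1 | e1 <;> rcases h2 with e2 | e2 <;> rw [e1, e2]
    · exact Or.inl (one_mul _)
    · exact Or.inr (one_mul _)
    · exact Or.inr (mul_one _)
    · exact Or.inl ((map_mul (bar z) Z Z).symm.trans (by rw [hZ2, map_one]))
  rcases hfin with h | h
  · exact ht1 (core_two (bar_eq_one.mp h) (Two.of_sq (congrArg Subtype.val ht)))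
  · have h' : bar z (t * Z) = 1 := by rw [map_mul, h, ← map_mul, hZ2, map_one]
    have hcz : Commute (t : G) z := comm_of_mem_C t.2
    have htz2 : ((t : G) * z) * ((t : G) * z) = 1 := by
      rw [Commute.mul_mul_mul_comm hcz.symm, hJ.mul_self, mul_one]
      exact congrArg Subtype.val ht
    have e := core_two (bar_eq_one.mp h') (Two.of_sq htz2)
    exact htz ((mul_eq_one_iff_eq_inv.mp e).trans (inv_eq_of_mul_eq_one_right hJ.mul_self))

theorem exists_neg {z t : G} {J K : Subgroup G} (hJ : Intr z J) (hK : Intr t K) (hzt : z ≠ t)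
    {y : G} (hy : y ∈ K) (hy2 : Two y) (hy4 : y * y ≠ 1) (hyz : y * z = z * y)
    (htJ : t ∈ normalizer (J : Set G)) (hyJ : cj (y * y) J = J) (hJ2 : cj y J ≠ J) :
    ∃ S : Subgroup G, IsPGroup 2 S ∧ S ≤ C z ∧ y ∈ S ∧
      ∃ s ∈ J, s ∈ S ∧ s * s = z ∧ t * s * t⁻¹ = s * z := by
  have hyzC : Commute y z := hyz
  have hy1 : y ≠ 1 := fun h => hy4 (by rw [h, one_mul])
  have hyt : y ≠ t := fun h => hy4 (by rw [h, hK.mul_self])
  have hyC : y ∈ C z := mem_C.mpr hyz
  obtain ⟨S, hS, hWS, hSC, hSy⟩ := exists_sylow_C (a := z) hy2.zpowers (zpowers_le.mpr hyC)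
  have hyS : y ∈ S := hWS (mem_zpowers y)
  -- `t` is a power of `y`
  obtain ⟨k, hk⟩ := hy2
  have hy2 : Two y := ⟨k, hk⟩
  obtain ⟨n, hn, hn1⟩ := exists_pow_two k hk hy1
  have htn : y ^ n = t := (hK.sq_one (pow_mem hy n) hn).resolve_left hn1
  have htS : t ∈ S := htn ▸ pow_mem hyS n
  have htzC : Commute t z := htn ▸ hyzC.pow_left n
  have htC : t ∈ C z := hSC htS
  have hzC : z ∈ C t := mem_C.mpr htzC.symm.eq
  have hty : Commute t y := htn ▸ (Commute.refl y).pow_left n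
  obtain ⟨Q, hQ⟩ := hSy J hJ
  refine ⟨S, hS, hSC, hyS, ?_⟩
  by_cases hmove : ∃ q ∈ (Q : Subgroup J), t * (q : G) * t⁻¹ ≠ q
  · obtain ⟨q0, hq0, hq0'⟩ := hmove
    let τ : J → J := fun q => ⟨t * q * t⁻¹, (mem_normalizer_iff.mp htJ q).mp q.2⟩
    obtain ⟨s, hsQ, hs, hτs⟩ := hJ.uperf.negated Q τ
      (fun q hq => (hQ _).mpr (mul_mem (mul_mem htS ((hQ q).mp hq)) (inv_mem htS)))
      (fun a _ b _ => Subtype.ext (by simp only [τ, Subgroup.coe_mul]; group))
      (fun q _ => Subtype.ext (by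
        calc t * (t * (q : G) * t⁻¹) * t⁻¹ = (t * t) * q * (t * t)⁻¹ := by group
          _ = q := by rw [hK.mul_self]; group))
      ⟨q0, hq0, fun h => hq0' (congrArg Subtype.val h)⟩
    exact ⟨s, s.2, (hQ s).mp hsQ, congrArg Subtype.val hs, congrArg Subtype.val hτs⟩
  push Not at hmove
  exfalso
  have htQ : ∀ q : G, q ∈ J → q ∈ S → Commute t q := fun q hq hqS =>
    mul_inv_eq_iff_eq_mul.mp (hmove ⟨q, hq⟩ ((hQ _).mpr hqS))
  -- the second component
  have hJ2' : Intr z (cj y J) := hJ.conj_self hyC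
  have hJy : cj y⁻¹ J = cj y J := by
    conv_lhs => rw [← hyJ]
    rw [cj_cj, inv_mul_cancel_left]
  let h : G → G := fun q => y⁻¹ * q * y
  have hh_mem : ∀ q : G, q ∈ J → h q ∈ cj y J := by
    intro q hq
    have := conj_mem_cj (g := y⁻¹) hq
    rwa [inv_inv, hJy] at this
  have hh_S : ∀ q : G, q ∈ S → h q ∈ S := fun q hq => mul_mem (mul_mem (inv_mem hyS) hq) hyS
  have hh_mul : ∀ p q : G, h (p * q) = h p * h q := fun p q => by simp only [h]; group
  have hh_inv : ∀ q : G, h q⁻¹ = (h q)⁻¹ := fun q => by simp only [h]; group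
  have hh_z : h z = z := conj_eq_of_commute hyzC
  have hh_t : ∀ q : G, q ∈ J → q ∈ S → Commute t (h q) := fun q hq hqS =>
    (hty.inv_right.mul_right (htQ q hq hqS)).mul_right hty
  have hcomm2 : ∀ p q : G, p ∈ J → p ∈ S → q ∈ J → q ∈ S → Commute p (h q) := fun p q hp hpS hq hqS =>
    hJ.comm_exact hJ2' hJ2.symm hS hp (hh_mem q hq) hpS (hh_S q hqS)
  let x : G → G := fun q => (h q)⁻¹ * q
  have hyx : ∀ q : G, y * x q = q⁻¹ * y * q := fun q => by simp only [x, h]; group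
  have hx2 : ∀ q : G, q ∈ J → q ∈ S → q * q = z → x q * x q = 1 := by
    intro q hq hqS hqz
    calc x q * x q = ((h q)⁻¹ * (h q)⁻¹) * (q * q) :=
          Commute.mul_mul_mul_comm (hcomm2 q q hq hqS hq hqS).inv_right _ _
      _ = 1 := by rw [← mul_inv_rev, ← hh_mul, hqz, hh_z, inv_mul_cancel]
  have hfix : ∀ q : G, q ∈ J → q ∈ S → q * q = z → cj q⁻¹ K ≠ K := by
    intro q hq hqS hqz hfix
    have h1 : q⁻¹ * y * q⁻¹⁻¹ ∈ cj q⁻¹ K := conj_mem_cj hy
    rw [hfix, inv_inv, ← hyx] at h1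
    have hxK : x q ∈ K := by
      have := mul_mem (inv_mem hy) h1
      rwa [inv_mul_cancel_left] at this
    rcases hK.sq_one hxK (hx2 q hq hqS hqz) with e | e
    · have e' : h q = q := inv_mul_eq_one.mp e
      rcases hJ.inter_two hJ2' hJ2 hq (e' ▸ hh_mem q hq) (Two.of_mem hS hqS) with e'' | e''
      exacts [(hJ.sq_ne hqz).1 e'', (hJ.sq_ne hqz).2 e'']
    · have e' : q = h q * t := inv_mul_eq_iff_eq_mul.mp e
      have hc : ∀ p ∈ (Q : Subgroup J), (⟨q, hq⟩ : J) * p = p * ⟨q, hq⟩ := fun p hp => by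
        refine Subtype.ext ?_
        show q * (p : G) = p * q
        rw [e']
        exact ((hcomm2 p q p.2 ((hQ p).mp hp) hq hqS).symm.mul_left
          (htQ p p.2 ((hQ p).mp hp))).eq
      rcases hJ.uperf.central Q ((hQ ⟨q, hq⟩).mpr hqS) hc with e'' | e''
      exacts [(hJ.sq_ne hqz).1 (congrArg Subtype.val e''),
        (hJ.sq_ne hqz).2 (congrArg Subtype.val e'')]
  -- the quaternion pair
  obtain ⟨⟨q1, hq1⟩, hq1Q, ⟨q2, hq2⟩, hq2Q, hs1, hs2, hinv⟩ := hJ.uperf.exists_pair Q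
  have hq1S : q1 ∈ S := (hQ _).mp hq1Q
  have hq2S : q2 ∈ S := (hQ _).mp hq2Q
  obtain ⟨hs3, -, -, -⟩ := mul_pair_sq hJ.uperf hinv hs2 hs1
  replace hs1 : q1 * q1 = z := congrArg Subtype.val hs1
  replace hs2 : q2 * q2 = z := congrArg Subtype.val hs2
  replace hs3 : q2 * q1 * (q2 * q1) = z := congrArg Subtype.val hs3
  replace hinv : q2 * q1 * q2⁻¹ = q1⁻¹ := congrArg Subtype.val hinv
  obtain ⟨q3, hq3def⟩ : ∃ q3, q3 = q2 * q1 := ⟨_, rfl⟩
  rw [← hq3def] at hs3
  have hq3 : q3 ∈ J := hq3def ▸ mul_mem hq2 hq1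
  have hq3S : q3 ∈ S := hq3def ▸ mul_mem hq2S hq1S
  have hzS : z ∈ S := hs1 ▸ mul_mem hq1S hq1S
  -- the components of `C t`
  have hcrel : ∀ p : G, p ∈ J → p ∈ S → p ∈ C t := fun p hp hpS => mem_C.mpr (htQ p hp hpS).symm.eq
  have hL1 : Intr t (cj q1⁻¹ K) := hK.conj_self (inv_mem (hcrel _ hq1 hq1S))
  have hL2 : Intr t (cj q2⁻¹ K) := hK.conj_self (inv_mem (hcrel _ hq2 hq2S))
  have hL3 : Intr t (cj q3⁻¹ K) := hK.conj_self (inv_mem (hcrel _ hq3 hq3S))
  have hdist : ∀ p q r : G, r ∈ J → r ∈ S → r * r = z → q * p⁻¹ = r⁻¹ →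
      cj p⁻¹ K ≠ cj q⁻¹ K := by
    intro p q r hr hrS hrz e he
    refine hfix r hr hrS hrz ?_
    have := congrArg (cj q) he
    rwa [cj_cj, cj_cj, mul_inv_cancel, cj_one, e] at this
  have hzi : z⁻¹ = z := inv_eq_of_mul_eq_one_right hJ.mul_self
  have hinvz : ∀ q : G, q * q = z → q⁻¹ * q⁻¹ = z := fun q hq => by rw [← mul_inv_rev, hq, hzi]
  have hd13 : cj q1⁻¹ K ≠ cj q3⁻¹ K :=
    hdist q1 q3 q2⁻¹ (inv_mem hq2) (inv_mem hq2S) (hinvz _ hs2)
      (by rw [hq3def, mul_inv_cancel_right, inv_inv])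
  have hd23 : cj q2⁻¹ K ≠ cj q3⁻¹ K :=
    hdist q2 q3 q1 hq1 hq1S hs1 (by rw [hq3def, hinv])
  have hd12 : cj q1⁻¹ K ≠ cj q2⁻¹ K := by
    refine hdist q1 q2 (q1 * q2⁻¹) (mul_mem hq1 (inv_mem hq2)) (mul_mem hq1S (inv_mem hq2S)) ?_
      (by group)
    have e : q2⁻¹ * q1 * q2 = q1⁻¹ := by
      have e' : q1 = (q2 * q1 * q2⁻¹)⁻¹ := by rw [hinv, inv_inv]
      nth_rw 1 [e']; group
    calc q1 * q2⁻¹ * (q1 * q2⁻¹) = q1 * (q2⁻¹ * q1 * q2) * (q2 * q2)⁻¹ := by group
      _ = z := by rw [e, hs2, hzi, mul_inv_cancel, one_mul]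
  -- elements of order four
  have hST : IsPGroup 2 ↥(S ⊓ C t) := hS.to_le inf_le_left
  have hyT : y ∈ S ⊓ C t := mem_inf.mpr ⟨hyS, hK.le hy⟩
  have haT : ∀ q : G, q ∈ J → q ∈ S → q⁻¹ * y * q ∈ S ⊓ C t := fun q hq hqS =>
    mem_inf.mpr ⟨mul_mem (mul_mem (inv_mem hqS) hyS) hqS,
      mul_mem (mul_mem (inv_mem (hcrel q hq hqS)) (hK.le hy)) (hcrel q hq hqS)⟩
  have haL : ∀ q : G, q⁻¹ * y * q ∈ cj q⁻¹ K := fun q => by
    simpa using conj_mem_cj (g := q⁻¹) hy
  have hac : ∀ q : G, q ∈ J → q ∈ S → q * q = z → Commute y (x q) := by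
    intro q hq hqS hqz
    have e : Commute y (q⁻¹ * y * q) := hK.comm_exact (hK.conj_self (inv_mem (hcrel q hq hqS)))
      (hfix q hq hqS hqz).symm hST hy (haL q) hyT (haT q hq hqS)
    rw [← hyx] at e
    have := (Commute.refl y).inv_right.mul_right e
    rwa [inv_mul_cancel_left] at this
  have hyy : y * y = t := by
    have hsq : (q1⁻¹ * y * q1) * (q1⁻¹ * y * q1) = y * y := by
      rw [← hyx, Commute.mul_mul_mul_comm (hac q1 hq1 hq1S hs1).symm, hx2 q1 hq1 hq1S hs1, mul_one]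
    refine ((hK.inter_two hL1 (hfix q1 hq1 hq1S hs1) (mul_mem hy hy)
      (hsq ▸ mul_mem (haL q1) (haL q1)) ?_)).resolve_left hy4
    exact Two.of_mem hS (mul_mem hyS hyS)
  have hy44 : y * y * (y * y) = 1 := by rw [hyy, hK.mul_self]
  have hzx : z = x q1 * x q2 * x q3 := by
    have hz1 : Commute z (h q1) := (comm_of_mem_C (hSC (hh_S q1 hq1S))).symm
    have hhz : h q1 * h q1 = z := by rw [← hh_mul, hs1, hh_z]
    have e1 : (h q3)⁻¹ = (h q2)⁻¹ * (h q1)⁻¹ * z := by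
      have e : h q2 * h q1 = (h q1)⁻¹ * h q2 := by
        rw [← hh_inv, ← hh_mul, ← hh_mul]
        congr 1
        exact mul_inv_eq_iff_eq_mul.mp hinv
      rw [hq3def, hh_mul, e, mul_inv_rev, inv_inv, mul_assoc]
      congr 1
      rw [← hhz, inv_mul_cancel_left]
    have e2 : x q3 = z * (x q2 * x q1) := by
      have hc : Commute q2 (h q1)⁻¹ := (hcomm2 q2 q1 hq2 hq2S hq1 hq1S).inv_right
      have hz2 : Commute z ((h q2)⁻¹ * (h q1)⁻¹) :=
        ((comm_of_mem_C (hSC (hh_S q2 hq2S))).symm.inv_right).mul_right hz1.inv_right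
      calc x q3 = (h q2)⁻¹ * (h q1)⁻¹ * z * (q2 * q1) := by
            simp only [x]; rw [e1, hq3def]
        _ = z * ((h q2)⁻¹ * ((h q1)⁻¹ * q2) * q1) := by rw [← hz2.eq]; group
        _ = z * (x q2 * x q1) := by rw [← hc.eq]; simp only [x]; group
    have hzc : Commute (x q1 * x q2) z :=
      comm_of_mem_C (mul_mem
        (mul_mem (inv_mem (hSC (hh_S q1 hq1S))) (hSC hq1S))
        (mul_mem (inv_mem (hSC (hh_S q2 hq2S))) (hSC hq2S)))
    rw [e2, ← mul_assoc, hzc.eq, mul_assoc z]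
    calc z = z * 1 := (mul_one z).symm
      _ = _ := by
        congr 1
        calc (1 : G) = x q1 * (x q2 * x q2) * x q1 := by
              rw [hx2 q2 hq2 hq2S hs2, mul_one, hx2 q1 hq1 hq1S hs1]
          _ = _ := by group
  have hzy : z = y * ((q1⁻¹ * y * q1) * (q2⁻¹ * y * q2) * (q3⁻¹ * y * q3)) := by
    rw [← hyx, ← hyx, ← hyx]
    calc z = (y * y * (y * y)) * (x q1 * x q2 * x q3) := by rw [hy44, one_mul]; exact hzx
      _ = y * y * y * (y * x q1) * x q2 * x q3 := by group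
      _ = y * y * y * (x q1 * y) * x q2 * x q3 := by rw [(hac q1 hq1 hq1S hs1).eq]
      _ = y * y * (y * x q1) * (y * x q2) * x q3 := by group
      _ = y * y * (y * x q1) * (x q2 * y) * x q3 := by rw [(hac q2 hq2 hq2S hs2).eq]
      _ = y * (y * (y * x q1)) * x q2 * (y * x q3) := by group
      _ = y * ((y * (x q1 * y)) * x q2) * (y * x q3) := by
        rw [(hac q1 hq1 hq1S hs1).eq]; group
      _ = _ := by group
  obtain ⟨T, hT, hTle, hTC, hTy⟩ := exists_sylow_C (a := t) hST inf_le_right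
  obtain ⟨QK, hQK⟩ := hTy K hK
  obtain ⟨⟨s0, hs0⟩, hs0Q, hs0sq, hs0y⟩ := hK.uperf.exists_inverted QK (x := ⟨y, hy⟩)
    ((hQK _).mpr (hTle hyT)) (Subtype.ext hyy)
  have hs0T : s0 ∈ T := (hQK _).mp hs0Q
  replace hs0sq : s0 * s0 = t := congrArg Subtype.val hs0sq
  replace hs0y : s0 * y * s0⁻¹ = y⁻¹ := congrArg Subtype.val hs0y
  have hqT : ∀ q : G, q ∈ J → q ∈ S → q ∈ T := fun q hq hqS => hTle ⟨hqS, hcrel q hq hqS⟩
  have hs0a : ∀ q : G, q ∈ J → q ∈ S → q * q = z → Commute s0 (q⁻¹ * y * q) :=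
    fun q hq hqS hqz => hK.comm_exact (hK.conj_self (inv_mem (hcrel q hq hqS)))
      (hfix q hq hqS hqz).symm hT hs0 (haL q) hs0T (hTle (haT q hq hqS))
  have hs0z : s0 * z * s0⁻¹ = t * z := by
    obtain ⟨A, hA⟩ : ∃ A, A = (q1⁻¹ * y * q1) * (q2⁻¹ * y * q2) * (q3⁻¹ * y * q3) := ⟨_, rfl⟩
    have hcA : Commute s0 A := hA ▸ ((hs0a q1 hq1 hq1S hs1).mul_right
      (hs0a q2 hq2 hq2S hs2)).mul_right (hs0a q3 hq3 hq3S hs3)
    rw [← hA] at hzy
    calc s0 * z * s0⁻¹ = (s0 * y * s0⁻¹) * (s0 * A * s0⁻¹) := by rw [hzy]; group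
      _ = (y * y)⁻¹ * (y * A) := by rw [hs0y, conj_eq_of_commute' hcA]; group
      _ = t * z := by rw [hyy, ← hzy, inv_eq_of_mul_eq_one_right hK.mul_self]
  obtain ⟨s1, hs1def⟩ : ∃ s1, s1 = q1⁻¹ * s0 * q1 := ⟨_, rfl⟩
  have hs1L : s1 ∈ cj q1⁻¹ K := by
    have := conj_mem_cj (g := q1⁻¹) hs0
    rwa [inv_inv, ← hs1def] at this
  have hs1T : s1 ∈ T := hs1def ▸
    mul_mem (mul_mem (inv_mem (hqT q1 hq1 hq1S)) hs0T) (hqT q1 hq1 hq1S)
  have hs1y : Commute s1 y := (hK.comm_exact hL1 (hfix q1 hq1 hq1S hs1).symm hT hy hs1L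
    (hTle hyT) hs1T).symm
  have hs1a : Commute s1 (q2⁻¹ * y * q2) := hL1.comm_exact hL2 hd12 hT hs1L (haL q2) hs1T
    (hTle (haT q2 hq2 hq2S))
  have hq1z : Commute q1 z := comm_of_mem_C (hSC hq1S)
  have hs1z : s1 * z * s1⁻¹ = t * z := by
    calc s1 * z * s1⁻¹ = q1⁻¹ * (s0 * (q1 * z * q1⁻¹) * s0⁻¹) * q1 := by rw [hs1def]; group
      _ = t * z := by
        rw [conj_eq_of_commute' hq1z, hs0z,
          conj_eq_of_commute ((htQ q1 hq1 hq1S).symm.mul_right hq1z)]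
  obtain ⟨w, hwdef⟩ : ∃ w, w = s0 * s1 := ⟨_, rfl⟩
  have hs0t : Commute s0 t := comm_of_mem_C (hK.le hs0)
  have hwz : w ∈ C z := by
    refine mem_C.mpr (mul_inv_eq_iff_eq_mul.mp ?_)
    calc w * z * w⁻¹ = (s0 * t * s0⁻¹) * (s0 * z * s0⁻¹) := by
          rw [hwdef]
          calc s0 * s1 * z * (s0 * s1)⁻¹ = s0 * (s1 * z * s1⁻¹) * s0⁻¹ := by group
            _ = _ := by rw [hs1z]; group
      _ = z := by rw [conj_eq_of_commute' hs0t, hs0z, ← mul_assoc, hK.mul_self, one_mul]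
  have hwx : w * x q2 * w⁻¹ = t * x q2 := by
    have e : x q2 = y⁻¹ * (q2⁻¹ * y * q2) := by rw [← hyx, inv_mul_cancel_left]
    have e1 : s1 * x q2 * s1⁻¹ = x q2 :=
      conj_eq_of_commute' (by rw [e]; exact hs1y.inv_right.mul_right hs1a)
    calc w * x q2 * w⁻¹ = s0 * (s1 * x q2 * s1⁻¹) * s0⁻¹ := by rw [hwdef]; group
      _ = (s0 * y * s0⁻¹)⁻¹ * (s0 * (q2⁻¹ * y * q2) * s0⁻¹) := by rw [e1, e]; group
      _ = y * (q2⁻¹ * y * q2) := by
        rw [hs0y, inv_inv, conj_eq_of_commute' (hs0a q2 hq2 hq2S hs2)]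
      _ = t * x q2 := by rw [← hyx, ← mul_assoc, hyy]
  obtain ⟨u, hudef⟩ : ∃ u, u = w * (h q2)⁻¹ * w⁻¹ := ⟨_, rfl⟩
  obtain ⟨v, hvdef⟩ : ∃ v, v = w * q2 * w⁻¹ := ⟨_, rfl⟩
  have ht' : t = u * v * (h q2)⁻¹ * q2 := by
    calc t = (t * x q2) * x q2 := by rw [mul_assoc, hx2 q2 hq2 hq2S hs2, mul_one]
      _ = (w * x q2 * w⁻¹) * x q2 := by rw [hwx]
      _ = _ := by rw [hudef, hvdef]; simp only [x]; group
  have huN : u ∈ cj w (cj y J) := hudef ▸ conj_mem_cj (inv_mem (hh_mem q2 hq2))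
  have hvN : v ∈ cj w J := hvdef ▸ conj_mem_cj hq2
  have hN1 : Intr z (cj w J) := hJ.conj_self hwz
  have hN2 : Intr z (cj w (cj y J)) := hJ2'.conj_self hwz
  have hhq2 : (h q2)⁻¹ ∈ cent z J := inv_mem (hJ.other_le_cent hJ2' hJ2 (hh_mem q2 hq2))
  by_cases hA : J = cj w J ∨ J = cj w (cj y J)
  swap
  · simp only [not_or] at hA
    refine hJ.no_fixed_axis (c := u * v * (h q2)⁻¹) (a := q1) (b := q2)
      (mul_mem (mul_mem (hJ.other_le_cent hN2 (Ne.symm hA.2) huN)
        (hJ.other_le_cent hN1 (Ne.symm hA.1) hvN)) hhq2) hq1 hs1 hinv ?_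
    rw [← ht']
    exact htQ q1 hq1 hq1S
  by_cases hB : cj y J = cj w J ∨ cj y J = cj w (cj y J)
  swap
  · simp only [not_or] at hB
    refine hJ2'.no_fixed_axis (c := u * v * q2) (a := h q1) (b := (h q2)⁻¹)
      (mul_mem (mul_mem (hJ2'.other_le_cent hN2 (Ne.symm hB.2) huN)
        (hJ2'.other_le_cent hN1 (Ne.symm hB.1) hvN))
        (hJ2'.other_le_cent hJ hJ2.symm hq2)) (hh_mem q1 hq1) ?_ ?_ ?_
    · rw [← hh_mul, hs1, hh_z]
    · rw [inv_inv, ← hh_inv, ← hh_inv, ← hh_mul, ← hh_mul]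
      congr 1
      have e' : q1 = (q2 * q1 * q2⁻¹)⁻¹ := by rw [hinv, inv_inv]
      nth_rw 1 [e']; group
    · rw [mul_assoc (u * v), (hcomm2 q2 q2 hq2 hq2S hq2 hq2S).inv_right.eq, ← mul_assoc, ← ht']
      exact hh_t q1 hq1 hq1S
  -- both components are permuted
  obtain ⟨Q2, hQ2⟩ := hSy _ hJ2'
  have htQ2 : ∀ q ∈ (Q2 : Subgroup ↥(cj y J)), Commute t (q : G) := by
    intro q hq
    have hq' := mem_cj.mp q.2
    have hqS : y⁻¹ * q * y ∈ S := mul_mem (mul_mem (inv_mem hyS) ((hQ2 q).mp hq)) hyS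
    have e := (hty.mul_right (htQ _ hq' hqS)).mul_right hty.inv_right
    rwa [show y * (y⁻¹ * (q : G) * y) * y⁻¹ = q by group] at e
  have hbc : ∀ {p q : G} (hp : p ∈ J) (hq : q ∈ cj y J),
      Commute (bar z ⟨p, hJ.le hp⟩) (bar z ⟨q, hJ2'.le hq⟩) := by
    intro p q hp hq
    refine commutatorElement_eq_one_iff_mul_comm.mp ?_
    rw [← map_commutatorElement]
    exact bar_eq_one.mpr (hJ.comm_core hJ2' hJ2.symm hp hq)
  obtain ⟨b, b2, hbb⟩ : ∃ (b : J) (b2 : ↥(cj y J)),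
      bar z ⟨t, htC⟩ = bar z (inclusion hJ.le b) * bar z (inclusion hJ2'.le b2) := by
    have e : bar z ⟨t, htC⟩ = bar z ⟨u, hN2.le huN⟩ * bar z ⟨v, hN1.le hvN⟩ *
        bar z ⟨(h q2)⁻¹, hJ2'.le (inv_mem (hh_mem q2 hq2))⟩ * bar z ⟨q2, hJ.le hq2⟩ := by
      rw [← map_mul, ← map_mul, ← map_mul]
      exact congrArg (bar z) (Subtype.ext ht')
    rcases hA with hA | hA <;> rcases hB with hB | hB
    · exact absurd (hB.trans hA.symm) hJ2
    · have hv : v ∈ J := by rw [hA]; exact hvN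
      have hu : u ∈ cj y J := by rw [hB]; exact huN
      refine ⟨⟨v, hv⟩ * ⟨q2, hq2⟩, ⟨u, hu⟩ * ⟨(h q2)⁻¹, inv_mem (hh_mem q2 hq2)⟩, ?_⟩
      simp only [map_mul]
      exact e.trans (mul_four_swap (hbc hv hu).symm
        ((hbc hq2 hu).mul_right (hbc hq2 (inv_mem (hh_mem q2 hq2)))))
    · have hv : v ∈ cj y J := by rw [hB]; exact hvN
      have hu : u ∈ J := by rw [hA]; exact huN
      refine ⟨⟨u, hu⟩ * ⟨q2, hq2⟩, ⟨v, hv⟩ * ⟨(h q2)⁻¹, inv_mem (hh_mem q2 hq2)⟩, ?_⟩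
      simp only [map_mul]
      exact e.trans (mul_four_move
        ((hbc hq2 hv).mul_right (hbc hq2 (inv_mem (hh_mem q2 hq2)))))
    · exact absurd (hB.trans hA.symm) hJ2
  exact hJ.no_split hJ2' hJ2.symm Q Q2 (t := ⟨t, htC⟩) (Subtype.ext hK.mul_self) hK.ne_one'
    hzt.symm (fun q hq => htQ q q.2 ((hQ q).mp hq)) htQ2 hbb

end Cfsg.Agent.H33.IntrinsicSL2
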